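import Cfsg.Agent.CoThreeStd.SuzP.Pres

/-!
# The group `P1 = P / <<r1>>` (pattern `Suz:2` of S1750)

`r1 = y c n d n d x D n D n c y x` with `n = s b y p r b s`, `x = b q s b`: the element
`a = t (q p n)^2 c n d n d` commutes with `x`.
-/

set_option autoImplicit false

namespace Cfsg.Agent.CoThreeStd.SuzU

open Cfsg.Agent.CoThreeStd.SuzP.Data Cfsg.Agent.CoThreeStd.SuzP.Pres

/-- the additional relator `y c n d n d x D n D n c y x` -/
def r1 : List Lt := [.y, .c, .s, .b, .y, .p, .r, .b, .s, .d, .s, .b, .y, .p, .r, .b, .s, .d, .b, .q, .s, .b,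
  .D, .s, .b, .y, .p, .r, .b, .s, .D, .s, .b, .y, .p, .r, .b, .s, .c, .y, .b, .q, .s, .b]

/-- the relators -/
def rels1 : List (List Lt) := rels ++ [r1]

/-- the relators in the free group -/
def relSet1 : Set (FreeGroup Lt) := {r | ∃ w ∈ rels1, r = (w.map FreeGroup.of).prod}

/-- the presented group -/
abbrev P1 : Type := PresentedGroup relSet1

/-- a generator -/
def ge1 (x : Lt) : P1 := PresentedGroup.of x

/-- a word -/
def wd1 (w : List Lt) : P1 := (w.map ge1).prod

theorem mk_word1 (w : List Lt) : PresentedGroup.mk relSet1 (w.map FreeGroup.of).prod = wd1 w := by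
  rw [map_list_prod, List.map_map]; rfl

theorem wd1_rel {w : List Lt} (h : w ∈ rels1) : wd1 w = 1 := by
  rw [← mk_word1]
  exact PresentedGroup.one_of_mem ⟨w, h, rfl⟩

theorem mem_rels1 {w : List Lt} : w ∈ rels1 ↔ w ∈ rels ∨ w = r1 := by
  simp [rels1]

variable {K : Type*} [Group K]

/-- the universal property -/
def toHom1 (h : Lt → K) (hr : ∀ w ∈ rels, (w.map h).prod = 1) (h1 : (r1.map h).prod = 1) : P1 →* K :=
  PresentedGroup.toGroup (f := h) (by
    rintro r ⟨w, hw, rfl⟩
    rw [lift_word]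
    rcases mem_rels1.1 hw with hw | rfl
    · exact hr w hw
    · exact h1)

theorem toHom1_ge (h : Lt → K) (hr : ∀ w ∈ rels, (w.map h).prod = 1) (h1 : (r1.map h).prod = 1) (x : Lt) :
    toHom1 h hr h1 (ge1 x) = h x :=
  PresentedGroup.toGroup.of _

theorem toHom1_wd (h : Lt → K) (hr : ∀ w ∈ rels, (w.map h).prod = 1) (h1 : (r1.map h).prod = 1) (w : List Lt) :
    toHom1 h hr h1 (wd1 w) = (w.map h).prod := by
  rw [wd1, map_list_prod, List.map_map]
  congr 1
  apply List.map_congr_left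
  intro x _
  exact toHom1_ge h hr h1 x

theorem closure_ge1 : Subgroup.closure (Set.range ge1) = ⊤ := PresentedGroup.closure_range_of _

theorem range_toHom1 (h : Lt → K) (hr : ∀ w ∈ rels, (w.map h).prod = 1) (h1 : (r1.map h).prod = 1) :
    (toHom1 h hr h1).range = Subgroup.closure (Set.range h) := by
  rw [MonoidHom.range_eq_map, ← closure_ge1, MonoidHom.map_closure]
  congr 1
  ext k
  constructor
  · rintro ⟨_, ⟨x, rfl⟩, rfl⟩
    exact ⟨x, (toHom1_ge h hr h1 x).symm⟩
  · rintro ⟨x, rfl⟩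
    exact ⟨ge1 x, ⟨x, rfl⟩, toHom1_ge h hr h1 x⟩

/-- the upper bound for the order of `P1` -/
def UB3 : Prop := Finite P1 ∧ Nat.card P1 ≤ 2690072985600

end Cfsg.Agent.CoThreeStd.SuzU
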