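import Cfsg.Agent.CoThreeStd.SuzP.ClosingB
import Cfsg.Agent.CoThreeStd.SuzU.Base

/-!
# Closing with the group `P1` (helper781)
-/

set_option autoImplicit false
set_option maxRecDepth 100000
set_option Elab.async false

namespace Cfsg.Agent.CoThreeStd.SuzU

open Cfsg.Agent.CoThreeStd.SuzP.Data Cfsg.Agent.CoThreeStd.SuzP.Tab Cfsg.Agent.CoThreeStd.SuzP.Pres
  Cfsg.Agent.CoThreeStd.SuzP.Model Cfsg.Agent.CoThreeStd.SuzP.ClosingB Cfsg.Agent.CoThreeStd.Core

theorem chk_r1 : chk r1 = true := by decide +kernel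

/-- the projection `P → P1` -/
noncomputable def pi1 : P →* P1 := toHom ge1 fun _ hw => wd1_rel (mem_rels1.2 (Or.inl hw))

theorem pi1_ge (x : Lt) : pi1 (ge x) = ge1 x := toHom_ge _ _ x

/-- the action of `P1` -/
noncomputable def psi1 : P1 →* Equiv.Perm ℕ :=
  toHom1 lp (fun _ hw => good.word_eq_one (allL_spec rels_chk _ hw)) (good.word_eq_one chk_r1)

theorem psi1_ge (x : Lt) : psi1 (ge1 x) = lp x := toHom1_ge _ _ _ x

theorem psi1_pi1 (x : P) : psi1 (pi1 x) = ψ x := by
  have h : psi1.comp pi1 = ψ := by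
    apply MonoidHom.eq_of_eqOn_dense closure_ge
    rintro _ ⟨x, rfl⟩
    rw [MonoidHom.comp_apply, pi1_ge, psi1_ge, ψ_ge]
  rw [← h]
  rfl

theorem pi1_sur : Function.Surjective pi1 := by
  rw [← MonoidHom.range_eq_top]
  exact (range_toHom ge1 _).trans closure_ge1

/-- `P1` as a quotient of `P` -/
noncomputable def mod1 : SuzP.ClosingB.Mod P1 where
  π := pi1
  sur := pi1_sur
  ψ' := psi1
  comp := psi1_pi1

/-- a weaker bound is enough: `|P1|` is a multiple of `|Suz|` -/
theorem ub3_of_lt (hfin : Finite P1) (h : Nat.card P1 < 3138418483200) : UB3 := by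
  refine ⟨hfin, ?_⟩
  have h1 : Nat.card psi1.ker * Nat.card SuzP.Three.PB = Nat.card P1 := by
    have hr : psi1.range = SuzP.Three.PB := mod1.range
    rw [← Subgroup.card_mul_index psi1.ker, Subgroup.index_ker, hr]
  have h2 := SuzP.Three.SB.card_mul_index
  rw [SuzP.Three.card_SB] at h2
  rw [← h1, ← h2] at h ⊢
  have h3 : 448345497600 * (Nat.card psi1.ker * SuzP.Three.SB.index) < 448345497600 * 7 := by
    calc 448345497600 * (Nat.card psi1.ker * SuzP.Three.SB.index)
        = Nat.card psi1.ker * (448345497600 * SuzP.Three.SB.index) := by ring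
      _ < 3138418483200 := h
      _ = _ := by norm_num
  have h4 : Nat.card psi1.ker * SuzP.Three.SB.index < 7 := Nat.lt_of_mul_lt_mul_left h3
  calc Nat.card psi1.ker * (448345497600 * SuzP.Three.SB.index)
      = 448345497600 * (Nat.card psi1.ker * SuzP.Three.SB.index) := by ring
    _ ≤ 448345497600 * 6 := Nat.mul_le_mul_left _ (by omega)
    _ = 2690072985600 := by norm_num

/-- the closing argument with the oracle -/
theorem closing1 {G : Type*} [Group G] [Finite G] {t : G} {inner 𝒟 : G → Prop} (hUB : UB3) (PP : PD t inner 𝒟)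
    (g : Lt → G) (hgt : g .t = t) (hr : ∀ w ∈ rels, (w.map g).prod = 1) (h1 : (r1.map g).prod = 1)
    (hy : g .y ≠ 1) (hZ : ∀ x : G, (∀ l, x * g l = g l * x) → x = 1)
    (cent : ∀ x, x * t = t * x → x ∈ Subgroup.closure (Set.range g)) : 𝒟 (t * g .y) := by
  have hfin : Finite P1 := hUB.1
  have hF : ∀ x, toHom1 g hr h1 (pi1 (ge x)) = g x := fun x => by rw [pi1_ge, toHom1_ge]
  have h2 := closing (P' := P1) mod1 hUB.2 (toHom1 g hr h1)
    (fun x hx => hZ x fun l => by have := hx (ge1 l); rwa [toHom1_ge] at this)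
    (show toHom1 g hr h1 (pi1 (ge .y)) ≠ 1 by rw [hF]; exact hy) PP
    (show toHom1 g hr h1 (pi1 (ge .t)) = t by rw [hF]; exact hgt)
    (fun x hx => by rw [range_toHom1]; exact cent x hx)
  have h3 : 𝒟 (t * toHom1 g hr h1 (pi1 (ge .y))) := h2
  rwa [hF] at h3

end Cfsg.Agent.CoThreeStd.SuzU
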