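import Cfsg.Agent.CoThreeStd.SuzU.Ext
import Cfsg.Agent.CoThreeStd.SuzU.RD

/-!
# `(rho D)^4 = 1`, `rho = q b y b s r b y b p`, in every group satisfying the relators of `P1`
-/

set_option autoImplicit false
set_option maxRecDepth 100000
set_option Elab.async false

namespace Cfsg.Agent.CoThreeStd.SuzU.RhoD

open Cfsg.Agent.CoThreeStd.SuzP.Data Cfsg.Agent.CoThreeStd.SuzP.Pres
  Cfsg.Agent.CoThreeStd.SuzU.Cent Cfsg.Agent.CoThreeStd.SuzU.Sw Cfsg.Agent.CoThreeStd.SuzU.AFacts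
  Cfsg.Agent.CoThreeStd.SuzU.Ext
open Cfsg.Agent.SporadicRecognition.CosetCert (ev ev_nil ev_cons ev_append Cert)

theorem RD_T : ∀ w ∈ RD.T, ev (gl ge1) w = 1 :=
  use (C := RD.C) RD.mem rfl (by decide +kernel)
    (fun r h => ok_X (List.all_eq_true.1 (by decide +kernel : RD.R.all okX = true) r h))
    (by decide +kernel) (by decide +kernel)

/-- `rho D` -/
def rdW : List Lt := [.q, .b, .y, .b, .s, .r, .b, .y, .b, .p, .D]

variable {K : Type*} [Group K] {g : Lt → K}

/-- a word that is trivial in `P1` is trivial in every group satisfying the relators -/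
theorem transfer (hr : ∀ w ∈ rels, (w.map g).prod = 1) (h1 : (r1.map g).prod = 1) {w : List ℕ}
    (hw : ev (gl ge1) w = 1) : ev (gl g) w = 1 := by
  rw [ev_gl] at hw ⊢
  have h2 : wd1 (w.flatMap sw) = 1 := hw
  rw [← toHom1_wd g hr h1, h2, map_one]

theorem rhoD_four (hr : ∀ w ∈ rels, (w.map g).prod = 1) (h1 : (r1.map g).prod = 1) :
    ((rdW ++ rdW ++ rdW ++ rdW).map g).prod = 1 := by
  have h := transfer hr h1 (RD_T _ (by decide +kernel :
    [2,5,0,5,4,3,5,0,5,1,10,2,5,0,5,4,3,5,0,5,1,10,2,5,0,5,4,3,5,0,5,1,10,2,5,0,5,4,3,5,0,5,1,10] ∈ RD.T))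
  rw [ev_gl] at h
  exact h

theorem rhoD_pow (hr : ∀ w ∈ rels, (w.map g).prod = 1) (h1 : (r1.map g).prod = 1) :
    (rdW.map g).prod ^ 4 = 1 := by
  have h := rhoD_four hr h1
  rw [List.map_append, List.prod_append, List.map_append, List.prod_append, List.map_append, List.prod_append] at h
  rw [pow_succ, pow_succ, pow_two]
  exact h

end Cfsg.Agent.CoThreeStd.SuzU.RhoD
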