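import Cfsg.Agent.CoThreeStd.SuzU.Sw
import Cfsg.Agent.CoThreeStd.SuzU.E0

/-!
# Facts on `a = t q p n q p n c n d n d`

In every group satisfying the relators of `P`, `a` is an involution with `a t a = t p r`, commuting with
`y, p, r, c, q p n`.
-/

set_option autoImplicit false
set_option maxRecDepth 100000
set_option Elab.async false

namespace Cfsg.Agent.CoThreeStd.SuzU.AFacts

open Cfsg.Agent.CoThreeStd.SuzP.Data Cfsg.Agent.CoThreeStd.SuzP.Pres
  Cfsg.Agent.CoThreeStd.SuzU.Cent Cfsg.Agent.CoThreeStd.SuzU.Sw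
open Cfsg.Agent.SporadicRecognition.CosetCert (ev ev_nil ev_cons ev_append)
open Cfsg.Agent.SporadicRecognition.CosetCertHyp (ev_invw invw)

theorem invE : (List.range 12).all (fun x => Nat.beq (E0.C.inv x) (inv x)) = true := by decide +kernel
theorem relE : E0.R.all okR = true := by decide +kernel
theorem subE : E0.S.all okS = true := by decide +kernel
theorem fixE : E0.T.all (fun w => fix (w.flatMap sw)) = true := by decide +kernel

theorem T_P : ∀ w ∈ E0.T, ev (gl ge) w = 1 := by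
  have hr : ∀ w ∈ rels, (w.map ge).prod = 1 := fun _ hw => wd_rel hw
  refine one_of_mem modP (E0.mem (Cg ge) (gl ge) ?_ ?_ ?_) fixE
  · intro x hx
    have hx : x < 12 := hx
    rw [Nat.eq_of_beq_eq_true (List.all_eq_true.1 invE x (List.mem_range.2 hx))]
    exact hinv hr x hx
  · intro r h
    exact ok_R hr (List.all_eq_true.1 relE r h)
  · intro s h
    exact sub_ok (List.all_eq_true.1 subE s h)

variable {K : Type*} [Group K] {g : Lt → K}

theorem T_K (hr : ∀ w ∈ rels, (w.map g).prod = 1) : ∀ w ∈ E0.T, ev (gl g) w = 1 := by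
  intro w hw
  have h1 := T_P w hw
  rw [ev_gl] at h1 ⊢
  have h2 : wd (w.flatMap sw) = 1 := h1
  rw [← toHom_wd g hr, h2, map_one]

/-- the word `t q p n q p n c n d n d` -/
def aW : List Lt := [.t, .q, .p, .s, .b, .y, .p, .r, .b, .s, .q, .p, .s, .b, .y, .p, .r, .b, .s, .c,
  .s, .b, .y, .p, .r, .b, .s, .d, .s, .b, .y, .p, .r, .b, .s, .d]

/-- the word `q p n` -/
def kW : List Lt := [.q, .p, .s, .b, .y, .p, .r, .b, .s]

/-- the certificate word `q p n t q p n c n d n d` -/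
def wA : List ℕ := [2, 1, 8, 7, 2, 1, 8, 6, 8, 9, 8, 9]

theorem invA (hr : ∀ w ∈ rels, (w.map g).prod = 1) :
    ev (gl g) [10, 8, 10, 8, 6, 8, 1, 2, 7, 8, 1, 2] = (ev (gl g) wA)⁻¹ := by
  have h := ev_invw (gl g) inv 12 (fun x hx => ⟨by
    have h1 : (List.range 12).all (fun x => Nat.blt (inv x) 12) = true := by decide +kernel
    exact Nat.le_of_ble_eq_true (List.all_eq_true.1 h1 x (List.mem_range.2 hx)), hinv hr x hx⟩) wA (by decide)
  rw [← h]
  rfl

theorem aW_eq (hr : ∀ w ∈ rels, (w.map g).prod = 1) : (aW.map g).prod = ev (gl g) wA := by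
  have h1 : (aW.map g).prod = ev (gl g) [7, 2, 1, 8, 2, 1, 8, 6, 8, 9, 8, 9] := by
    rw [ev_gl]
    rfl
  have h2 : ev (gl g) [7, 2, 1, 8, 7, 8, 1, 2] = 1 := ok_R hr (by decide +kernel)
  have h3 : ev (gl g) [2, 1, 8, 8, 1, 2] = 1 := ok_R hr (by decide +kernel)
  have h4 : ev (gl g) [7, 7] = 1 := ok_R hr (by decide +kernel)
  have e1 : ev (gl g) [7, 2, 1, 8, 2, 1, 8, 6, 8, 9, 8, 9] =
      ev (gl g) [7] * ev (gl g) [2, 1, 8] * ev (gl g) [2, 1, 8, 6, 8, 9, 8, 9] := by
    rw [← ev_append, ← ev_append]; rfl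
  have e2 : ev (gl g) wA = ev (gl g) [2, 1, 8] * ev (gl g) [7] * ev (gl g) [2, 1, 8, 6, 8, 9, 8, 9] := by
    rw [← ev_append, ← ev_append]; rfl
  have e3 : ev (gl g) [7, 2, 1, 8, 7, 8, 1, 2] =
      ev (gl g) [7] * ev (gl g) [2, 1, 8] * ev (gl g) [7] * ev (gl g) [8, 1, 2] := by
    rw [← ev_append, ← ev_append, ← ev_append]; rfl
  have e4 : ev (gl g) [2, 1, 8, 8, 1, 2] = ev (gl g) [2, 1, 8] * ev (gl g) [8, 1, 2] := by
    rw [← ev_append]; rfl
  have e5 : ev (gl g) [7, 7] = ev (gl g) [7] * ev (gl g) [7] := by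
    rw [← ev_append]; rfl
  rw [e3] at h2
  rw [e4] at h3
  rw [e5] at h4
  rw [h1, e1, e2]
  generalize ev (gl g) [7] = t at *
  generalize ev (gl g) [2, 1, 8] = k at *
  generalize ev (gl g) [8, 1, 2] = k' at *
  have hk : k' = k⁻¹ := (inv_eq_of_mul_eq_one_right h3).symm
  have ht : t⁻¹ = t := inv_eq_of_mul_eq_one_left h4
  congr 1
  rw [hk] at h2
  have h5 : t * k * t = k := mul_inv_eq_one.1 h2
  calc t * k = t * k * (t * t) := by rw [h4, mul_one]
    _ = t * k * t * t := by rw [← mul_assoc]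
    _ = k * t := by rw [h5]

theorem aa (hr : ∀ w ∈ rels, (w.map g).prod = 1) : (aW.map g).prod * (aW.map g).prod = 1 := by
  rw [aW_eq hr, ← ev_append]
  exact T_K hr _ (by decide +kernel)

theorem comm_aux (hr : ∀ w ∈ rels, (w.map g).prod = 1) (u u' : List ℕ)
    (h : wA ++ (u ++ ([10, 8, 10, 8, 6, 8, 1, 2, 7, 8, 1, 2] ++ u')) ∈ E0.T)
    (hu : okR (u ++ u') = true) : (aW.map g).prod * ev (gl g) u = ev (gl g) u * (aW.map g).prod := by
  have h1 := T_K hr _ h
  have h2 := ok_R hr hu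
  rw [ev_append, ev_append, ev_append, invA hr, ← aW_eq hr] at h1
  rw [ev_append] at h2
  have h3 : ev (gl g) u' = (ev (gl g) u)⁻¹ := (inv_eq_of_mul_eq_one_right h2).symm
  rw [h3] at h1
  generalize (aW.map g).prod = a at *
  generalize ev (gl g) u = k at *
  have h4 : a * k * a⁻¹ * k⁻¹ = 1 := by rw [← h1]; simp only [mul_assoc]
  have h5 := mul_inv_eq_one.1 h4
  exact mul_inv_eq_iff_eq_mul.1 h5

theorem one (g : Lt → K) (i : ℕ) : ev (gl g) [i] = gl g i := by rw [ev_cons, ev_nil, mul_one]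

theorem ay (hr : ∀ w ∈ rels, (w.map g).prod = 1) : (aW.map g).prod * g .y = g .y * (aW.map g).prod := by
  have h := comm_aux hr [0] [0] (by decide +kernel) (by decide +kernel)
  rw [one] at h
  simpa [gl, sw] using h

theorem ap (hr : ∀ w ∈ rels, (w.map g).prod = 1) : (aW.map g).prod * g .p = g .p * (aW.map g).prod := by
  have h := comm_aux hr [1] [1] (by decide +kernel) (by decide +kernel)
  rw [one] at h
  simpa [gl, sw] using h

theorem ar (hr : ∀ w ∈ rels, (w.map g).prod = 1) : (aW.map g).prod * g .r = g .r * (aW.map g).prod := by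
  have h := comm_aux hr [3] [3] (by decide +kernel) (by decide +kernel)
  rw [one] at h
  simpa [gl, sw] using h

theorem ac (hr : ∀ w ∈ rels, (w.map g).prod = 1) : (aW.map g).prod * g .c = g .c * (aW.map g).prod := by
  have h := comm_aux hr [6] [6] (by decide +kernel) (by decide +kernel)
  rw [one] at h
  simpa [gl, sw] using h

theorem ak (hr : ∀ w ∈ rels, (w.map g).prod = 1) :
    (aW.map g).prod * (kW.map g).prod = (kW.map g).prod * (aW.map g).prod := by
  have h := comm_aux hr [2, 1, 8] [8, 1, 2] (by decide +kernel) (by decide +kernel)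
  have e : ev (gl g) [2, 1, 8] = (kW.map g).prod := by rw [ev_gl]; rfl
  rwa [e] at h

theorem at_ (hr : ∀ w ∈ rels, (w.map g).prod = 1) :
    (aW.map g).prod * g .t * (aW.map g).prod = g .t * (g .p * g .r) := by
  have h : ev (gl g) (wA ++ ([7] ++ (wA ++ [3, 1, 7]))) = 1 := T_K hr _ (by decide +kernel)
  have h2 : ev (gl g) ([3, 1, 7] ++ [7, 1, 3]) = 1 := ok_R hr (by decide +kernel)
  rw [ev_append, ev_append, ev_append, ← aW_eq hr] at h
  rw [ev_append] at h2
  have h3 : ev (gl g) [7, 1, 3] = g .t * (g .p * g .r) := by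
    simp [ev_gl, sw]
  have h4 : ev (gl g) [7] = g .t := by simp [ev_gl, sw]
  rw [h3] at h2
  rw [h4] at h
  have h5 : ev (gl g) [3, 1, 7] = (g .t * (g .p * g .r))⁻¹ := eq_inv_of_mul_eq_one_left h2
  rw [h5] at h
  have h6 : (aW.map g).prod * g .t * (aW.map g).prod * (g .t * (g .p * g .r))⁻¹ = 1 := by
    rw [← h]; simp only [mul_assoc]
  exact mul_inv_eq_one.1 h6

end Cfsg.Agent.CoThreeStd.SuzU.AFacts
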