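import Cfsg.Agent.CoThreeStd.SuzU.Base
import Cfsg.Agent.CoThreeStd.SuzU.CA
import Cfsg.Agent.CoThreeStd.SuzU.CB
import Cfsg.Agent.CoThreeStd.SuzP.Model
import Cfsg.Agent.Lib.PermNetOrbit

/-!
# The words in the letters `y p q r s b c t`

If the relators of `P` hold in `K` and `ψ' : K → Perm ℕ` is compatible with the action on 1782 points, then
`⟨y, p, q, r, s, b, c, t⟩` has order at most 380160 and acts faithfully; the stabiliser of the points `0` and `3` is
trivial. So a word in these letters that fixes `0` and `3` is trivial in every group satisfying the relators of `P`.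
-/

set_option autoImplicit false
set_option maxRecDepth 100000
set_option Elab.async false

namespace Cfsg.Agent.CoThreeStd.SuzU.Cent

open Cfsg.Agent.CoThreeStd.SuzP.Data Cfsg.Agent.CoThreeStd.SuzP.Tab Cfsg.Agent.CoThreeStd.SuzP.Pres
  Cfsg.Agent.CoThreeStd.SuzP.Model
open Cfsg.Agent.SporadicRecognition.CosetCert (ev ev_nil ev_cons)
open Cfsg.Agent.Lib.PermNet (seq seq_eq seqB seqB_eq tb tb_eq)
open Cfsg.Agent.Lib.PermNetOrbit (stabL mem_stabL stabL_step)

/-- the letters of `C(t)` -/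
def cl : List Lt := [.y, .p, .q, .r, .s, .b, .c, .t]

variable {K : Type*} [Group K] {g : Lt → K}

/-- the subgroup generated by the letters `y p q r s b c t` -/
def Cg (g : Lt → K) : Subgroup K := Subgroup.closure (g '' {x | x ∈ cl})

theorem word_mem {w : List Lt} (hw : w.all (fun x => cl.contains x) = true) : (w.map g).prod ∈ Cg g := by
  induction w with
  | nil => exact (Cg g).one_mem
  | cons x w ih =>
    rw [List.all_cons, Bool.and_eq_true] at hw
    rw [List.map_cons, List.prod_cons]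
    exact (Cg g).mul_mem (Subgroup.subset_closure ⟨x, List.contains_iff_mem.1 hw.1, rfl⟩) (ih hw.2)

theorem ev_map (f : ℕ → Lt) (r : List ℕ) : ev (fun k => g (f k)) r = ((r.map f).map g).prod := by
  induction r with
  | nil => rfl
  | cons k r ih => rw [ev_cons, ih]; rfl

/-- letters of `CA` -/
def fA : ℕ → Lt
  | 0 => .y | 1 => .p | 2 => .q | 3 => .r | 4 => .s | 5 => .c | _ => .t

/-- letters of `CB` -/
def fB : ℕ → Lt
  | 0 => .y | 1 => .p | 2 => .q | 3 => .r | 4 => .s | 5 => .b | 6 => .c | _ => .t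

theorem relA : CA.R.all (fun r => rels.contains (r.map fA)) = true := by decide +kernel
theorem relB : CB.R.all (fun r => rels.contains (r.map fB)) = true := by decide +kernel
theorem sqA : (List.range 7).all (fun x => rels.contains [fA x, fA (CA.C.inv x)]) = true := by decide +kernel
theorem sqB : (List.range 8).all (fun x => rels.contains [fB x, fB (CB.C.inv x)]) = true := by decide +kernel

/-- `|⟨y, p, q, r, s, b, c, t⟩| ≤ 380160` -/
theorem card_C (hr : ∀ w ∈ rels, (w.map g).prod = 1) : Finite (Cg g) ∧ Nat.card (Cg g) ≤ 380160 := by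
  have key : ∀ (f : ℕ → Lt) (x y : ℕ), rels.contains [f x, f y] = true → g (f x) * g (f y) = 1 := by
    intro f x y h
    have := hr _ (List.contains_iff_mem.1 h)
    simpa using this
  have hA := CA.card (⊥ : Subgroup K) (fun k => g (fA k)) (by
    intro x hx
    exact key fA _ _ (List.all_eq_true.1 sqA x (List.mem_range.2 hx))) (by
    intro r hr'
    rw [ev_map]
    exact hr _ (List.contains_iff_mem.1 (List.all_eq_true.1 relA r hr'))) (by
    intro s hs
    exact absurd hs (by simp [CA.S])) inferInstance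
  have hk : CA.C.k = 7 := rfl
  have hk' : CB.C.k = 8 := rfl
  rw [hk] at hA
  have hB := CB.card (Subgroup.closure ((fun k => g (fA k)) '' {x | x < 7})) (fun k => g (fB k)) (by
    intro x hx
    exact key fB _ _ (List.all_eq_true.1 sqB x (List.mem_range.2 hx))) (by
    intro r hr'
    rw [ev_map]
    exact hr _ (List.contains_iff_mem.1 (List.all_eq_true.1 relB r hr'))) (by
    intro s hs
    have h1 : ∀ i : ℕ, i < 7 → g (fA i) ∈ Subgroup.closure ((fun k => g (fA k)) '' {x | x < 7}) :=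
      fun i hi => Subgroup.subset_closure ⟨i, hi, rfl⟩
    simp only [CB.S, List.mem_cons, List.not_mem_nil, or_false] at hs
    rcases hs with rfl | rfl | rfl | rfl | rfl | rfl | rfl <;>
      (rw [ev_cons, ev_nil, mul_one])
    · exact h1 0 (by norm_num)
    · exact h1 1 (by norm_num)
    · exact h1 2 (by norm_num)
    · exact h1 3 (by norm_num)
    · exact h1 4 (by norm_num)
    · exact h1 5 (by norm_num)
    · exact h1 6 (by norm_num)) hA.1
  rw [hk'] at hB
  have he : Subgroup.closure ((fun k => g (fB k)) '' {x | x < 8}) = Cg g := by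
    unfold Cg
    congr 1
    ext z
    constructor
    · rintro ⟨i, hi, rfl⟩
      have hi : i < 8 := hi
      refine ⟨fB i, ?_, rfl⟩
      show fB i ∈ cl
      interval_cases i <;> decide
    · rintro ⟨x, hx, rfl⟩
      have hx : x ∈ cl := hx
      simp only [cl, List.mem_cons, List.not_mem_nil, or_false] at hx
      rcases hx with rfl | rfl | rfl | rfl | rfl | rfl | rfl | rfl
      · exact ⟨0, by show 0 < 8; norm_num, rfl⟩
      · exact ⟨1, by show 1 < 8; norm_num, rfl⟩
      · exact ⟨2, by show 2 < 8; norm_num, rfl⟩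
      · exact ⟨3, by show 3 < 8; norm_num, rfl⟩
      · exact ⟨4, by show 4 < 8; norm_num, rfl⟩
      · exact ⟨5, by show 5 < 8; norm_num, rfl⟩
      · exact ⟨6, by show 6 < 8; norm_num, rfl⟩
      · exact ⟨7, by show 7 < 8; norm_num, rfl⟩
  rw [he] at hB
  refine ⟨hB.1, hB.2.trans ?_⟩
  have h3 := hA.2
  rw [Subgroup.card_bot, mul_one] at h3
  omega

/-! ### orbits -/

/-- check of an orbit tree: entries `(image, point, number of the word)` -/
noncomputable def orbB (ws : ℕ → List Lt) (l : List (ℕ × ℕ × ℕ)) : ℕ → Bool :=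
  List.rec (motive := fun _ => ℕ → Bool) (fun _ => true)
    (fun a _ ih seen => and (and (tb seen a.2.1) (and (not (tb seen a.1))
      (and (Nat.blt a.2.1 1782) (Nat.beq (pt tbl (ws a.2.2) a.2.1) a.1))))
        (seqB (Nat.lor seen (Nat.shiftLeft 1 a.1)) ih)) l

theorem orbB_spec {ws : ℕ → List Lt} {Q : ℕ → Prop} (hQ : ∀ a i, a < 1782 → Q a → Q (pt tbl (ws i) a)) :
    ∀ (l : List (ℕ × ℕ × ℕ)) (seen : ℕ), orbB ws l seen = true → (∀ a, seen.testBit a = true → Q a) →
      ∃ T : Finset ℕ, T.card = l.length ∧ ∀ a ∈ T, seen.testBit a = false ∧ Q a := by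
  intro l
  induction l with
  | nil => intro seen _ _; exact ⟨∅, rfl, by simp⟩
  | cons a l ih =>
    intro seen h hs
    have h' : and (and (tb seen a.2.1) (and (not (tb seen a.1))
      (and (Nat.blt a.2.1 1782) (Nat.beq (pt tbl (ws a.2.2) a.2.1) a.1))))
        (seqB (Nat.lor seen (Nat.shiftLeft 1 a.1)) (orbB ws l)) = true := h
    rw [Bool.and_eq_true, Bool.and_eq_true, Bool.and_eq_true, Bool.and_eq_true, seqB_eq, tb_eq, tb_eq] at h'
    obtain ⟨⟨h1, h2, h3, h4⟩, h5⟩ := h'
    have h3 : a.2.1 < 1782 := Nat.le_of_ble_eq_true h3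
    have h4 : pt tbl (ws a.2.2) a.2.1 = a.1 := Nat.eq_of_beq_eq_true h4
    have h2 : seen.testBit a.1 = false := by simpa using h2
    have h6 : Q a.1 := by rw [← h4]; exact hQ _ _ h3 (hs _ h1)
    have e : ∀ b, (Nat.lor seen (Nat.shiftLeft 1 a.1)).testBit b = (seen.testBit b || decide (a.1 = b)) := by
      intro b
      show (seen ||| (1 <<< a.1)).testBit b = _
      rw [Nat.testBit_or, Nat.one_shiftLeft, Nat.testBit_two_pow]
    obtain ⟨T, hT1, hT2⟩ := ih _ h5 (by
      intro b hb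
      rw [e, Bool.or_eq_true, decide_eq_true_eq] at hb
      rcases hb with hb | rfl
      · exact hs _ hb
      · exact h6)
    have hn : a.1 ∉ T := by
      intro h7
      have h8 := (hT2 _ h7).1
      rw [e] at h8
      simp at h8
    refine ⟨insert a.1 T, by rw [Finset.card_insert_of_notMem hn, hT1, List.length_cons], ?_⟩
    intro b hb
    rcases Finset.mem_insert.1 hb with rfl | hb
    · exact ⟨h2, h6⟩
    · have h8 := hT2 _ hb
      refine ⟨?_, h8.2⟩
      have h9 := h8.1
      rw [e, Bool.or_eq_false_iff] at h9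
      exact h9.1

/-- the tree of the orbit of `0` -/
def tree0 : List (ℕ × ℕ × ℕ) := [(98, 0, 0), (37, 0, 1), (640, 0, 2), (1284, 0, 3), (1635, 0, 4), (804, 0, 5), (1131, 0, 6), (1630, 0, 7), (897, 98, 1), (961, 98, 2), (1429, 98, 3), (1288, 98, 4), (1278, 98, 5), (995, 98, 6), (1236, 98, 7), (1598, 37, 2), (1152, 37, 3), (597, 37, 4), (1338, 37, 5), (421, 37, 6), (1559, 640, 1), (378, 640, 3), (835, 640, 4), (1037, 640, 5), (357, 640, 6), (494, 1284, 2), (123, 1284, 4), (563, 1284, 5), (47, 1284, 6), (1350, 1284, 7), (986, 1635, 3), (139, 1635, 5), (423, 1635, 6), (1129, 1635, 7), (993, 804, 0), (1233, 804, 1), (280, 804, 2), (108, 804, 3), (748, 804, 6), (405, 1131, 1), (919, 1131, 2), (869, 1131, 3), (926, 1131, 4), (1263, 1131, 5), (1683, 1131, 7), (1550, 897, 2), (600, 897, 3), (672, 897, 4), (827, 897, 5), (1531, 961, 1), (345, 961, 3), (42, 961, 4), (1732, 961, 5), (1132, 1429, 2), (428, 1429, 4), (475, 1429, 5), (1117, 1429, 7), (171, 1288, 3), (567, 1288,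 5), (780, 1288, 7), (667, 1278, 0), (933, 1278, 1), (204, 1278, 2), (830, 1278, 4), (701, 1278, 6), (929, 1278, 7), (1479, 995, 5), (564, 1598, 3), (914, 1598, 4), (938, 1598, 5), (1366, 1598, 6), (882, 1152, 2), (1549, 1152, 5), (703, 597, 5), (562, 1338, 0), (1188, 1338, 2), (282, 1338, 3), (498, 1338, 4), (193, 1338, 6), (1675, 421, 2), (723, 421, 5), (1174, 1559, 3), (559, 1559, 4), (309, 1559, 5), (1756, 1559, 6), (1452, 378, 2), (1563, 378, 4), (326, 378, 5), (1036, 378, 6), (1202, 835, 3), (1385, 835, 5), (1161, 835, 6), (1200, 1037, 0), (694, 1037, 1), (1769, 1037, 2), (118, 1037, 3), (1535, 1037, 4), (499, 1037, 6), (1697, 357, 1), (879, 357, 3), (55, 357, 4), (1573, 357, 5), (455, 494, 4), (1024, 494, 5), (522, 494, 6), (236, 494, 7), (493, 123, 5), (1256, 123, 7), (870, 563, 0), (1034, 563, 1), (886, 563, 2), (1775, 563, 3), (1391, 563, 6), (1374, 563, 7), (451, 47, 2), (1533, 47, 5), (833, 47, 7), (1532, 986, 2), (1198, 986, 5), (956, 986, 7), (386,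 139, 0), (588, 139, 1), (1548, 139, 2), (629, 139, 4), (665, 139, 6), (31, 423, 7), (820, 993, 1), (1565, 993, 2), (1239, 993, 5), (1466, 993, 6), (1168, 1233, 2), (1407, 1233, 3), (632, 280, 1), (867, 280, 3), (1634, 280, 6), (64, 108, 2), (768, 108, 6), (1596, 748, 3), (410, 748, 5), (1237, 405, 5), (1504, 919, 5), (7, 869, 5), (524, 869, 7), (1584, 926, 5), (195, 926, 7), (936, 1263, 0), (838, 1263, 1), (388, 1263, 2), (1733, 1263, 3), (829, 1263, 4), (496, 1263, 6), (445, 1263, 7), (351, 1550, 3), (611, 1550, 4), (1146, 1550, 5), (1440, 600, 2), (1384, 827, 0), (113, 827, 1), (805, 827, 2), (1671, 827, 4), (1441, 827, 6), (1401, 1531, 5), (750, 345, 2), (1740, 345, 5), (1312, 42, 5), (1478, 1732, 0), (1281, 1732, 2), (214, 1732, 3), (1067, 1132, 4), (1612, 1132, 5), (576, 428, 5), (1743, 428, 7), (367, 475, 0), (1260, 475, 3), (36, 171, 5), (960, 567, 1), (186, 567, 2), (442, 567, 3), (1572, 567, 6), (226, 567, 7), (1499, 667, 1), (1492, 667, 2), (1090, 667,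 4), (1416, 667, 6), (1399, 667, 7), (213, 933, 2), (1704, 933, 4), (93, 933, 5), (1010, 933, 6), (655, 933, 7), (905, 204, 1), (925, 204, 3), (1507, 204, 4), (317, 204, 6), (871, 204, 7), (48, 830, 3), (10, 830, 6), (1557, 830, 7), (1000, 701, 1), (950, 701, 2), (1543, 701, 4), (764, 701, 5), (807, 701, 7), (596, 564, 2), (1065, 564, 5), (219, 914, 5), (1316, 938, 0), (1662, 938, 2), (1456, 938, 3), (542, 938, 4), (473, 938, 6), (1193, 882, 1), (1481, 1549, 0), (747, 1549, 1), (1547, 1549, 2), (376, 1549, 3), (1623, 1549, 4), (336, 1549, 6), (1684, 703, 0), (390, 703, 1), (1585, 703, 2), (334, 703, 3), (958, 703, 4), (901, 562, 3), (769, 562, 4), (307, 562, 5), (1447, 562, 6), (1212, 282, 4), (102, 282, 6), (416, 498, 3), (248, 498, 5), (876, 193, 3), (1724, 193, 5), (649, 1675, 5), (580, 723, 0), (942, 723, 2), (187, 723, 4), (452, 723, 6), (395, 1174, 2), (877, 1174, 5), (686, 1174, 6), (1377, 559, 5), (1691, 559, 6), (426, 309, 0), (1710, 309, 1), (1119, 309,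 2), (39, 309, 3), (1455, 309, 4), (1491, 309, 6), (896, 1756, 3), (105, 1756, 4), (189, 1756, 5), (644, 1452, 4), (690, 1452, 5), (568, 1452, 6), (1587, 1563, 5), (1663, 326, 0), (1002, 326, 2), (1246, 326, 4), (323, 326, 6), (530, 1036, 2), (1302, 1036, 5), (1162, 1202, 5), (1654, 1385, 1), (832, 1385, 2), (1182, 1385, 3), (347, 1385, 6), (1757, 1161, 5), (756, 1200, 1), (887, 1200, 2), (380, 1200, 3), (356, 1200, 4), (1702, 1200, 5), (1556, 1200, 6), (1610, 694, 3), (1606, 694, 4), (1526, 694, 6), (1073, 1769, 3), (856, 1769, 4), (836, 1769, 6), (931, 118, 2), (437, 118, 4), (979, 118, 6), (834, 499, 1), (772, 499, 2), (1639, 499, 3), (300, 499, 4), (114, 499, 5), (1140, 1697, 5), (107, 879, 5), (29, 1573, 3), (1295, 1573, 6), (4, 455, 3), (1183, 455, 7), (1176, 1024, 0), (1614, 1024, 1), (1005, 1024, 2), (614, 1024, 4), (625, 1024, 6), (881, 1024, 7), (775, 522, 5), (209, 522, 7), (337, 493, 1), (1206, 493, 2), (1449, 493, 3), (679, 493, 7), (1355, 870, 1), (1230,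 870, 3), (196, 1034, 2), (78, 1034, 3), (1083, 1034, 5), (1439, 1034, 7), (1719, 1775, 2), (683, 1775, 4), (549, 1775, 6), (554, 1775, 7), (1228, 1391, 3), (1579, 1391, 5), (704, 451, 5), (415, 451, 7), (697, 1533, 0), (33, 1533, 4), (1293, 1532, 5), (1690, 386, 1), (1011, 386, 2), (735, 386, 6), (1747, 588, 2), (348, 588, 6), (903, 1548, 1), (68, 1548, 3), (1520, 1548, 4), (250, 1548, 6), (258, 629, 5), (698, 665, 2), (1446, 665, 5), (1331, 820, 5), (916, 1565, 1), (761, 1239, 0), (797, 1239, 1), (1667, 1239, 2), (1320, 1239, 3), (477, 1239, 4), (1621, 1239, 6), (403, 1407, 2), (492, 632, 3), (381, 867, 2), (90, 867, 4), (65, 867, 5), (577, 1634, 3), (194, 1634, 5), (284, 64, 1), (1225, 64, 5), (810, 64, 6), (1353, 768, 2), (372, 410, 0), (1503, 410, 1), (1397, 410, 3), (1506, 410, 4), (119, 1237, 1), (1620, 1237, 2), (825, 1237, 4), (1138, 1237, 6), (1249, 1504, 0), (837, 1504, 1), (330, 1504, 2), (259, 1504, 3), (1294, 1504, 4), (1567, 1504, 6), (1417, 7, 0),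 (587, 7, 2), (717, 7, 3), (1004, 7, 6), (621, 7, 7), (921, 1584, 1), (872, 1584, 2), (1375, 1584, 4), (1351, 936, 2), (50, 936, 3), (1650, 936, 4), (1306, 936, 6), (1245, 936, 7), (880, 838, 3), (1673, 838, 5), (82, 838, 7), (1133, 388, 1), (670, 388, 4), (1566, 388, 6), (1711, 388, 7), (83, 829, 3), (1602, 829, 5), (96, 829, 6), (122, 829, 7), (808, 496, 3), (215, 351, 2), (1592, 1146, 0), (651, 1146, 1), (706, 1146, 2), (143, 1146, 4), (35, 1146, 6), (584, 1384, 1), (1529, 1384, 2), (1179, 1384, 4), (420, 1384, 5), (1437, 1384, 6), (661, 113, 2), (1746, 113, 5), (757, 805, 1), (1408, 805, 3), (155, 805, 4), (1095, 805, 6), (468, 1441, 2), (352, 1401, 0), (1270, 1401, 2), (1536, 1401, 3), (529, 750, 5), (922, 1740, 0), (419, 1740, 1), (1266, 1740, 2), (741, 1740, 3), (1055, 1740, 6), (495, 1312, 0), (327, 1312, 2), (1033, 1312, 3), (824, 1312, 6), (1247, 1478, 3), (657, 1281, 3), (1114, 214, 2), (1541, 214, 6), (338, 1067, 5), (1657, 367, 3), (949, 1260, 2), (1354,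 1260, 4), (474, 36, 0), (497, 36, 3), (168, 960, 3), (397, 960, 5), (822, 960, 7), (41, 186, 3), (1495, 186, 6), (362, 186, 7), (53, 442, 2), (212, 442, 6), (1555, 442, 7), (1371, 1572, 2), (532, 1572, 3), (434, 1572, 7), (581, 1499, 2), (601, 1499, 4), (109, 1499, 5), (1728, 1499, 7), (1431, 1492, 1), (1116, 1492, 4), (1421, 1492, 5), (230, 1492, 7), (796, 1090, 3), (875, 1090, 7), (1254, 1416, 7), (1521, 1704, 3), (1207, 1704, 5), (1066, 93, 1), (1186, 93, 2), (966, 93, 3), (1279, 93, 4), (349, 905, 3), (147, 905, 5), (1267, 905, 6), (1717, 925, 4), (980, 925, 6), (788, 1507, 3), (1268, 1507, 6), (399, 317, 1), (243, 317, 3), (774, 317, 4), (115, 317, 5), (691, 317, 7), (431, 48, 2), (1307, 48, 5), (305, 10, 3), (1087, 10, 5), (531, 10, 7), (252, 1000, 7), (322, 764, 2), (1772, 764, 4), (1485, 764, 6), (902, 764, 7), (1189, 596, 1), (12, 1065, 1), (276, 1065, 4), (746, 219, 0), (1250, 219, 1), (556, 219, 2), (1177, 219, 4), (740, 1316, 5), (1127, 1316, 6), (709,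 1456, 6), (408, 542, 5), (519, 473, 3), (891, 473, 5), (1261, 1193, 5), (190, 1481, 1), (1076, 1481, 3), (490, 1481, 4), (363, 747, 2), (268, 747, 3), (864, 747, 5), (1203, 376, 2), (1680, 376, 4), (794, 1623, 3), (873, 336, 3), (80, 390, 3), (802, 1585, 3), (412, 334, 2), (624, 334, 4), (249, 958, 5), (724, 901, 5), (669, 769, 5), (809, 307, 1), (1744, 307, 2), (1764, 307, 3), (1558, 416, 5), (1615, 248, 0), (306, 248, 1), (1524, 248, 2), (271, 248, 3), (366, 248, 4), (1074, 248, 6), (1101, 876, 5), (1082, 1724, 0), (207, 1724, 1), (1068, 1724, 3), (1094, 1724, 6), (527, 649, 2), (377, 649, 3), (918, 649, 4), (169, 649, 6), (298, 580, 2), (1015, 942, 1), (1461, 942, 4), (1642, 452, 2), (643, 452, 5), (502, 395, 5), (45, 395, 6), (1218, 877, 0), (645, 877, 2), (1125, 877, 4), (1171, 686, 2), (843, 686, 5), (1538, 1377, 2), (900, 1377, 3), (40, 1377, 6), (1093, 1691, 5), (1280, 426, 1), (1706, 426, 5), (1221, 426, 6), (1096, 1710, 4), (1058, 1491, 1), (863, 1491,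 3), (149, 1491, 4), (57, 896, 5), (1169, 189, 3), (1149, 644, 5), (389, 690, 4), (848, 568, 5), (729, 1587, 2), (976, 1663, 2), (1255, 1663, 4), (941, 1663, 6), (526, 1002, 1), (565, 1002, 3), (1210, 1002, 4), (1771, 1002, 6), (1265, 1246, 3), (1297, 1246, 6), (1737, 323, 5), (801, 1302, 0), (391, 1302, 1), (533, 1162, 0), (136, 1162, 2), (1369, 1162, 3), (433, 1162, 4), (244, 1162, 6), (46, 1654, 3), (1275, 832, 6), (1062, 1182, 4), (543, 1182, 6), (1761, 347, 2), (663, 347, 3), (650, 1757, 0), (238, 1757, 3), (384, 756, 4), (1581, 756, 5), (1244, 887, 5), (893, 380, 5), (117, 356, 5), (1701, 1702, 1), (310, 1702, 2), (129, 1702, 4), (25, 1556, 5), (1322, 1610, 6), (939, 1073, 5), (233, 856, 6), (1021, 931, 4), (469, 931, 5), (1628, 437, 6), (1057, 979, 4), (131, 834, 5), (396, 300, 5), (418, 114, 0), (324, 114, 6), (491, 107, 2), (1698, 29, 4), (450, 1295, 3), (1340, 4, 5), (1427, 1176, 1), (1070, 1176, 2), (959, 1176, 4), (738, 1176, 5), (288, 1176, 6), (570,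 1614, 2), (1134, 1614, 6), (1321, 614, 3), (928, 614, 5), (1483, 614, 7), (1716, 625, 1), (574, 625, 4), (237, 775, 0), (1378, 775, 2), (1560, 775, 4), (1044, 775, 6), (598, 337, 2), (1192, 337, 3), (489, 337, 7), (1089, 1206, 1), (560, 1449, 2), (152, 1449, 7), (1291, 1230, 2), (535, 1083, 0), (659, 1083, 1), (947, 1083, 4), (1141, 1083, 6), (279, 1083, 7), (71, 1719, 6), (111, 1719, 7), (173, 683, 6), (1390, 549, 5), (1370, 1579, 0), (1364, 1579, 1), (1292, 1579, 2), (141, 1579, 4), (332, 1579, 6), (255, 704, 1), (137, 903, 4), (545, 1520, 5), (406, 250, 5), (828, 258, 1), (539, 258, 2), (1298, 1446, 4), (971, 1331, 0), (1420, 1331, 2), (355, 1331, 3), (795, 1331, 6), (319, 761, 1), (1432, 761, 2), (286, 761, 6), (1100, 1667, 1), (940, 1667, 3), (283, 1667, 4), (482, 1667, 6), (1457, 1621, 2), (1721, 403, 5), (1232, 492, 2), (227, 381, 1), (1726, 381, 6), (975, 65, 1), (633, 65, 4), (1632, 1225, 0), (974, 1225, 1), (1113, 1225, 4), (1636, 372, 1), (636, 1503,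 2), (138, 1503, 5), (1423, 1249, 6), (1426, 837, 6), (962, 259, 4), (1056, 1417, 5), (478, 587, 1), (262, 1004, 3), (1019, 1004, 5), (106, 921, 2), (1487, 872, 1), (968, 872, 4), (847, 1375, 5), (1148, 1650, 3), (1224, 1650, 5), (1633, 880, 2), (705, 880, 5), (784, 1673, 3), (449, 1566, 5), (232, 83, 2), (436, 83, 7), (188, 96, 3), (1356, 1592, 5), (151, 706, 6), (303, 584, 2), (401, 1529, 1), (1337, 1529, 3), (1211, 420, 1), (163, 420, 3), (20, 420, 4), (1530, 1746, 3), (1115, 757, 3), (1092, 757, 4), (639, 757, 6), (407, 1095, 3), (1217, 1095, 5), (579, 468, 5), (1238, 529, 4), (272, 529, 6), (671, 922, 2), (1778, 1266, 6), (513, 1055, 2), (603, 1114, 5), (1365, 338, 4), (1759, 338, 6), (76, 949, 1), (1241, 474, 3), (1311, 397, 1), (534, 41, 6), (1554, 1495, 3), (1158, 53, 1), (952, 212, 2), (1681, 109, 4), (1682, 1421, 7), (1328, 1207, 1), (1053, 1207, 4), (235, 1066, 3), (1640, 1186, 3), (167, 966, 4), (1269, 147, 6), (126, 1267, 3), (1173, 1717, 5), (1105,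 980, 5), (1235, 788, 6), (1107, 1268, 5), (630, 243, 7), (1754, 115, 4), (1574, 431, 6), (1712, 305, 5), (85, 1485, 7), (1310, 1189, 5), (1402, 408, 1), (1624, 519, 5), (289, 268, 2), (1605, 864, 1), (320, 1680, 3), (912, 1680, 6), (505, 794, 2), (1040, 80, 2), (1324, 802, 5), (414, 249, 4), (148, 1615, 2), (435, 271, 6), (177, 1101, 2), (616, 1101, 3), (202, 1461, 5), (251, 643, 2), (1394, 900, 4), (1510, 1280, 5), (379, 1706, 4), (1617, 149, 5), (1766, 1169, 4), (1777, 1149, 4), (536, 389, 3), (1575, 848, 2), (1112, 46, 4), (1443, 1062, 6), (135, 543, 4), (179, 1244, 1), (1262, 893, 4), (1050, 939, 4), (200, 570, 3), (917, 1321, 7), (1411, 928, 3), (1488, 1370, 5), (816, 406, 4), (1185, 795, 2), (430, 940, 6), (1165, 974, 5), (664, 1426, 5), (130, 1019, 6), (728, 579, 6)]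

/-- the tree of the orbit of `3` under the stabiliser of `0` -/
def tree3 : List (ℕ × ℕ × ℕ) := [(1205, 3, 0), (1143, 3, 1), (849, 1205, 1), (787, 1143, 0), (1336, 1143, 1), (782, 849, 0), (422, 849, 1), (164, 787, 1), (1046, 1336, 0), (1257, 1336, 1), (951, 782, 1), (635, 422, 0), (1009, 422, 1), (18, 164, 0), (62, 164, 1), (398, 1046, 1), (383, 1257, 0), (125, 1257, 1), (732, 951, 0), (1145, 951, 1), (1240, 635, 1), (124, 1009, 0), (1144, 1009, 1), (1156, 18, 1), (934, 62, 0), (606, 62, 1), (369, 398, 0), (1150, 398, 1), (712, 383, 1), (988, 125, 0), (63, 125, 1), (707, 732, 1), (1071, 1145, 0), (264, 1145, 1), (488, 1240, 0), (180, 1240, 1), (1163, 124, 1), (246, 1144, 0), (1028, 1144, 1), (1063, 1156, 0), (161, 1156, 1), (948, 934, 1), (79, 606, 0), (476, 606, 1), (1170, 369, 1), (145, 1150, 0), (591, 1150, 1), (1075, 712, 0), (1335, 712, 1), (520, 988, 1), (150, 63, 0), (1271, 63, 1), (861, 707, 0), (1081, 707, 1), (783, 1071, 1), (1296, 264, 0), (1229, 264,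 1), (818, 488, 1), (1120, 180, 0), (182, 180, 1), (344, 1163, 0), (518, 1163, 1), (839, 246, 1), (370, 1028, 0), (217, 1028, 1), (1042, 161, 0), (486, 161, 1), (1348, 948, 0), (343, 948, 1), (339, 79, 1), (269, 476, 0), (913, 476, 1), (72, 1170, 0), (1178, 1170, 1), (254, 145, 1), (394, 591, 0), (623, 591, 1), (1209, 1075, 1), (144, 1335, 0), (97, 1335, 1), (582, 520, 0), (1043, 520, 1), (840, 150, 1), (628, 1271, 0), (1227, 1271, 1), (128, 1081, 0), (578, 1081, 1), (575, 783, 0), (1007, 783, 1), (26, 1296, 1), (270, 1229, 0), (731, 1229, 1), (1072, 818, 0), (1049, 818, 1), (24, 1120, 1), (154, 182, 0), (996, 182, 1), (540, 344, 1), (402, 518, 0), (727, 518, 1), (256, 839, 0), (120, 839, 1), (43, 370, 1), (1078, 217, 0), (446, 217, 1), (552, 1042, 1), (1361, 486, 0), (481, 486, 1), (945, 1348, 1), (1362, 343, 0), (907, 343, 1), (1020, 339, 0), (785, 339, 1), (908, 269, 1), (512, 913, 1), (88, 1178, 0), (184, 1178, 1), (350, 254, 0), (1022, 394, 1), (1313, 623, 0),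 (1172, 623, 1), (312, 1209, 0), (1106, 1209, 1), (281, 144, 1), (537, 97, 0), (910, 97, 1), (851, 582, 1), (315, 1043, 0), (1345, 1043, 1), (313, 840, 1), (763, 628, 1), (1343, 1227, 0), (593, 1227, 1), (821, 128, 1), (700, 578, 0), (181, 578, 1), (1025, 575, 1), (178, 1007, 0), (765, 1007, 1), (813, 26, 0), (605, 26, 1), (208, 270, 1), (1359, 731, 1), (1201, 1049, 0), (231, 1049, 1), (514, 24, 0), (767, 154, 1), (211, 996, 0), (1001, 996, 1), (439, 540, 0), (1079, 540, 1), (508, 402, 1), (594, 727, 0), (1059, 727, 1), (297, 256, 1), (760, 120, 0), (239, 120, 1), (1196, 43, 1), (216, 1078, 1), (984, 446, 0), (713, 446, 1), (240, 552, 0), (440, 552, 1), (693, 1361, 1), (1181, 481, 0), (278, 481, 1), (333, 945, 0), (1139, 945, 1), (1038, 1362, 1), (999, 907, 1), (718, 1020, 1), (287, 785, 0), (176, 785, 1), (1319, 908, 1), (14, 512, 0), (260, 512, 1), (826, 88, 1), (964, 184, 0), (814, 184, 1), (668, 350, 1), (241, 1022, 0), (308, 1313, 1), (874, 1172, 1), (1215,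 1106, 0), (1157, 1106, 1), (1252, 537, 1), (1023, 910, 0), (95, 910, 1), (734, 851, 0), (842, 851, 1), (1041, 315, 1), (112, 1345, 0), (585, 1345, 1), (460, 313, 1), (1154, 763, 1), (121, 1343, 1), (201, 593, 0), (74, 821, 0), (516, 821, 1), (558, 700, 1), (1061, 181, 0), (517, 181, 1), (44, 1025, 0), (292, 1025, 1), (812, 178, 1), (613, 765, 1), (888, 813, 1), (696, 605, 0), (1342, 605, 1), (354, 208, 1), (676, 1359, 0), (67, 1359, 1), (480, 1201, 1), (1363, 231, 0), (1159, 231, 1), (771, 514, 1), (1135, 767, 0), (242, 211, 1), (983, 1001, 1), (572, 1079, 0), (1032, 1079, 1), (1085, 594, 1), (557, 1059, 0), (806, 1059, 1), (776, 297, 0), (1180, 297, 1), (608, 760, 1), (654, 239, 0), (77, 239, 1), (299, 1196, 1), (91, 216, 1), (1253, 984, 1), (438, 713, 0), (617, 440, 0), (590, 440, 1), (373, 693, 0), (528, 693, 1), (1035, 1181, 1), (387, 278, 1), (34, 1139, 0), (599, 1139, 1), (500, 999, 0), (510, 999, 1), (898, 718, 0), (752, 718, 1), (1014, 176, 0), (1164, 1319,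 0), (1118, 1319, 1), (866, 260, 0), (631, 260, 1), (662, 826, 0), (346, 826, 1), (551, 964, 1), (1029, 814, 0), (69, 814, 1), (547, 668, 0), (429, 668, 1), (364, 241, 1), (11, 308, 1), (1242, 874, 0), (977, 874, 1), (823, 1215, 1), (699, 1157, 0), (273, 1157, 1), (1126, 1252, 0), (754, 1023, 1), (1344, 95, 1), (844, 842, 0), (335, 842, 1), (321, 585, 0), (648, 585, 1), (538, 460, 1), (6, 1154, 1), (932, 121, 1), (192, 201, 1), (21, 516, 0), (340, 516, 1), (854, 558, 0), (1231, 558, 1), (142, 1061, 1), (972, 517, 1), (850, 292, 0), (5, 292, 1), (716, 613, 0), (992, 613, 1), (17, 888, 0), (997, 888, 1), (641, 1342, 0), (602, 354, 0), (755, 354, 1), (417, 67, 0), (1160, 67, 1), (353, 480, 0), (23, 480, 1), (1251, 1363, 1), (1080, 1159, 0), (295, 1159, 1), (610, 771, 0), (963, 771, 1), (1121, 1135, 1), (1008, 242, 1), (546, 983, 0), (860, 983, 1), (937, 572, 1), (675, 1032, 0), (444, 1032, 1), (1109, 1085, 0), (1339, 557, 1), (1086, 806, 1), (483, 1180, 0), (291, 1180,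 1), (501, 77, 0), (58, 77, 1), (52, 299, 1), (427, 91, 1), (1287, 1253, 1), (94, 438, 1), (906, 590, 1), (456, 373, 1), (22, 528, 0), (140, 528, 1), (859, 1035, 1), (1147, 387, 0), (223, 387, 1), (294, 599, 1), (1130, 510, 1), (1325, 1014, 1), (642, 1118, 0), (205, 1118, 1), (296, 866, 1), (1219, 631, 0), (61, 346, 0), (1013, 551, 1), (157, 1029, 1), (766, 69, 1), (318, 429, 0), (550, 429, 1), (56, 364, 0), (365, 364, 1), (742, 11, 0), (509, 977, 1), (411, 823, 1), (865, 273, 0), (1330, 273, 1), (618, 1126, 1), (73, 1344, 1), (612, 844, 1), (620, 335, 0), (652, 335, 1), (653, 321, 1), (413, 648, 1), (1286, 538, 1), (1332, 6, 1), (990, 932, 1), (1103, 192, 1), (592, 340, 1), (467, 854, 1), (1273, 1231, 0), (1204, 1231, 1), (81, 142, 1), (719, 972, 0), (1128, 972, 1), (87, 5, 1), (894, 992, 1), (702, 641, 1), (521, 755, 0), (946, 755, 1), (472, 417, 1), (885, 1160, 0), (911, 23, 0), (883, 1251, 1), (206, 1080, 1), (425, 295, 1), (263, 963, 0), (266, 963, 1), (1136,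 1121, 0), (174, 1121, 1), (229, 1008, 0), (1137, 860, 1), (159, 937, 1), (15, 444, 0), (245, 444, 1), (957, 1109, 1), (104, 1086, 1), (257, 483, 1), (855, 291, 0), (1099, 291, 1), (1309, 501, 1), (374, 58, 1), (185, 52, 1), (86, 427, 1), (721, 1287, 1), (1047, 94, 1), (920, 456, 1), (464, 140, 0), (511, 859, 0), (1301, 859, 1), (1012, 223, 0), (1264, 294, 0), (471, 294, 1), (553, 1130, 0), (470, 1130, 1), (943, 205, 0), (443, 205, 1), (604, 296, 1), (831, 1013, 1), (277, 157, 1), (778, 766, 0), (153, 766, 1), (466, 550, 1), (1327, 411, 0), (687, 865, 1), (1220, 618, 0), (637, 618, 1), (800, 73, 1), (1303, 612, 1), (162, 413, 1), (1190, 1286, 1), (424, 1332, 1), (544, 990, 1), (1048, 1103, 1), (70, 467, 1), (890, 1204, 0), (220, 81, 0), (301, 81, 1), (615, 1128, 0), (462, 87, 0), (743, 87, 1), (1349, 894, 0), (393, 894, 1), (234, 946, 0), (715, 946, 1), (218, 472, 1), (1318, 883, 1), (54, 206, 1), (304, 425, 0), (13, 425, 1), (175, 266, 1), (737, 159, 0), (779, 15,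 1), (589, 957, 0), (1276, 957, 1), (714, 104, 1), (660, 257, 1), (561, 374, 1), (791, 185, 1), (368, 86, 1), (674, 721, 1), (290, 1047, 1), (160, 1301, 0), (38, 1301, 1), (293, 1012, 1), (382, 471, 1), (224, 470, 1), (595, 604, 1), (525, 277, 0), (819, 277, 1), (569, 687, 1), (1314, 162, 1), (817, 1190, 1), (16, 544, 1), (967, 1048, 1), (1272, 301, 0), (448, 301, 1), (210, 615, 1), (158, 743, 1), (146, 393, 1), (275, 218, 1), (1194, 54, 0), (646, 54, 1), (982, 779, 1), (1213, 561, 1), (927, 791, 1), (191, 674, 1), (759, 290, 1), (1223, 817, 1), (221, 967, 1), (484, 927, 1), (770, 759, 1)]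

/-- the letters -/
def w0 (i : ℕ) : List Lt := [fB i]

/-- words fixing `0` -/
def w3 : ℕ → List Lt
  | 0 => [.b, .p, .b, .t]
  | _ => [.b, .c, .p, .b, .r, .s]

theorem orb0 : orbB w0 tree0 (Nat.shiftLeft 1 0) = true := by decide +kernel
theorem orb3 : orbB w3 tree3 (Nat.shiftLeft 1 3) = true := by decide +kernel

/-- compatibility with the action -/
structure Mod (g : Lt → K) (ψ' : K →* Equiv.Perm ℕ) : Prop where
  rel : ∀ w ∈ rels, (w.map g).prod = 1
  map : ∀ x, ψ' (g x) = lp x

theorem Mod.word {ψ' : K →* Equiv.Perm ℕ} (M : Mod g ψ') (w : List Lt) {p : ℕ} (hp : p < 1782) :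
    ψ' (w.map g).prod p = pt tbl w p := by
  rw [map_list_prod, List.map_map, show ψ' ∘ g = SuzP.Model.lp from funext M.map, good.word w hp]

theorem step (ψ' : K →* Equiv.Perm ℕ) (M : Mod g ψ') [Finite (Cg g)] (qs : List ℕ) (p : ℕ) (hp : p < 1782)
    (ws : ℕ → List Lt) (l : List (ℕ × ℕ × ℕ)) (hl : orbB ws l (Nat.shiftLeft 1 p) = true)
    (hw : ∀ i, (ws i).all (fun x => cl.contains x) = true)
    (hq : ∀ i, ∀ q ∈ qs, q < 1782 ∧ pt tbl (ws i) q = q) :
    (l.length + 1) * Nat.card (stabL (ψ'.comp (Cg g).subtype) (p :: qs)) ≤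
      Nat.card (stabL (ψ'.comp (Cg g).subtype) qs) := by
  let φ := ψ'.comp (Cg g).subtype
  let Q : ℕ → Prop := fun a => ∃ x ∈ stabL φ qs, φ x p = a
  have hQ : ∀ a i, a < 1782 → Q a → Q (pt tbl (ws i) a) := by
    rintro a i ha ⟨x, hx, rfl⟩
    have h1 : ∀ b, b < 1782 → φ ⟨((ws i).map g).prod, word_mem (hw i)⟩ b = pt tbl (ws i) b :=
      fun b hb => M.word (ws i) hb
    refine ⟨⟨((ws i).map g).prod, word_mem (hw i)⟩ * x, (stabL φ qs).mul_mem ?_ hx, ?_⟩
    · intro q hq'
      rw [h1 q (hq i q hq').1, (hq i q hq').2]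
    · rw [map_mul, Equiv.Perm.mul_apply, h1 _ ha]
  have e : ∀ b, (Nat.shiftLeft 1 p).testBit b = decide (p = b) := by
    intro b
    show (1 <<< p).testBit b = _
    rw [Nat.one_shiftLeft, Nat.testBit_two_pow]
  have hp0 : Q p := ⟨1, (stabL φ qs).one_mem, by rw [map_one]; rfl⟩
  obtain ⟨T, hT1, hT2⟩ := orbB_spec hQ l _ hl (by
    intro a ha
    rw [e, decide_eq_true_eq] at ha
    rw [← ha]
    exact hp0)
  have hn : p ∉ T := by
    intro h7
    have h8 := (hT2 _ h7).1
    rw [e] at h8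
    simp at h8
  have h1 := stabL_step φ qs p (insert p T) (by
    intro a ha
    rcases Finset.mem_insert.1 ha with rfl | ha
    · exact hp0
    · exact (hT2 _ ha).2)
  rwa [Finset.card_insert_of_notMem hn, hT1] at h1

/-- the action of `⟨y, p, q, r, s, b, c, t⟩` is faithful, with base `0, 3` -/
theorem eq_one {ψ' : K →* Equiv.Perm ℕ} (M : Mod g ψ') {z : K} (hz : z ∈ Cg g) (h0 : ψ' z 0 = 0)
    (h3 : ψ' z 3 = 3) : z = 1 := by
  obtain ⟨hf, hc⟩ := card_C M.rel
  have s0 := step ψ' M [] 0 (by norm_num) w0 tree0 orb0 (by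
    intro i
    show (cl.contains (fB i) && true) = true
    rw [Bool.and_true, List.contains_iff_mem]
    unfold fB
    split <;> decide) (by intro i q hq; exact absurd hq (by simp))
  have s3 := step ψ' M [0] 3 (by norm_num) w3 tree3 orb3 (by
    intro i
    unfold w3
    split <;> decide) (by
    intro i q hq
    rw [List.mem_singleton] at hq
    subst hq
    refine ⟨by norm_num, ?_⟩
    unfold w3
    split
    · decide +kernel
    · decide +kernel)
  have l0 : tree0.length = 791 := by decide +kernel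
  have l3 : tree3.length = 479 := by decide +kernel
  rw [l0] at s0
  rw [l3] at s3
  have h4 : Nat.card (stabL (ψ'.comp (Cg g).subtype) []) ≤ Nat.card (Cg g) :=
    Nat.card_le_card_of_injective _ (Subtype.val_injective)
  have h5 : Nat.card (stabL (ψ'.comp (Cg g).subtype) [3, 0]) ≤ 1 := by omega
  have h6 : (⟨z, hz⟩ : Cg g) ∈ stabL (ψ'.comp (Cg g).subtype) [3, 0] := by
    intro q hq
    simp only [List.mem_cons, List.not_mem_nil, or_false] at hq
    rcases hq with rfl | rfl
    · exact h3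
    · exact h0
  have h7 : Nat.card (stabL (ψ'.comp (Cg g).subtype) [3, 0]) = 1 := le_antisymm h5 Nat.card_pos
  have h8 := (Subgroup.eq_bot_of_card_eq _ h7)
  rw [h8, Subgroup.mem_bot] at h6
  exact congrArg Subtype.val h6

/-- the word fixes the points `0` and `3` -/
noncomputable def fix (w : List Lt) : Bool := and (Nat.beq (pt tbl w 0) 0) (Nat.beq (pt tbl w 3) 3)

/-- the word is a word in the letters of `C(t)` and fixes the points `0` and `3` -/
noncomputable def okC (w : List Lt) : Bool := and (w.all fun x => cl.contains x) (fix w)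

theorem one_of_fix {ψ' : K →* Equiv.Perm ℕ} (M : Mod g ψ') {w : List Lt} (hw : (w.map g).prod ∈ Cg g)
    (h : fix w = true) : (w.map g).prod = 1 := by
  rw [fix, Bool.and_eq_true] at h
  exact eq_one M hw (by rw [M.word w (by norm_num)]; exact Nat.eq_of_beq_eq_true h.1)
    (by rw [M.word w (by norm_num)]; exact Nat.eq_of_beq_eq_true h.2)

/-- `P` itself -/
theorem modP : Mod (K := P) ge ψ := ⟨fun _ hw => wd_rel hw, ψ_ge⟩

/-- **words in the letters `y p q r s b c t` that fix `0` and `3` are trivial** -/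
theorem rel_C (hr : ∀ w ∈ rels, (w.map g).prod = 1) {w : List Lt} (h : okC w = true) : (w.map g).prod = 1 := by
  rw [okC, Bool.and_eq_true] at h
  have h1 : wd w = 1 := one_of_fix modP (word_mem h.1) h.2
  rw [← toHom_wd g hr w, h1, map_one]

theorem r1_chk : allB 1782 (fun p => Nat.beq (pt tbl r1 p) p) = true := by decide +kernel

/-- the action of `P1` -/
noncomputable def ψ1 : P1 →* Equiv.Perm ℕ :=
  toHom1 lp (fun _ hw => good.word_eq_one (allL_spec rels_chk _ hw)) (good.word_eq_one r1_chk)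

theorem ψ1_ge (x : Lt) : ψ1 (ge1 x) = lp x := toHom1_ge _ _ _ x

/-- `P1` -/
theorem modP1 : Mod (K := P1) ge1 ψ1 := ⟨fun _ hw => wd1_rel (mem_rels1.2 (Or.inl hw)), ψ1_ge⟩

end Cfsg.Agent.CoThreeStd.SuzU.Cent
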