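import Cfsg.Agent.CoThreeStd.SuzU.AFacts
import Cfsg.Agent.CoThreeStd.SuzU.E1

/-!
# Consequences of the relators of `P1`
-/

set_option autoImplicit false
set_option maxRecDepth 100000
set_option Elab.async false

namespace Cfsg.Agent.CoThreeStd.SuzU.Ext

open Cfsg.Agent.CoThreeStd.SuzP.Data Cfsg.Agent.CoThreeStd.SuzP.Pres
  Cfsg.Agent.CoThreeStd.SuzU.Cent Cfsg.Agent.CoThreeStd.SuzU.Sw Cfsg.Agent.CoThreeStd.SuzU.AFacts
open Cfsg.Agent.SporadicRecognition.CosetCert (ev ev_nil ev_cons ev_append Cert)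

/-- the defining relator of `a` -/
def adef : List ℕ := [12, 2, 1, 8, 7, 2, 1, 8, 6, 8, 9, 8, 9]

variable {K : Type*} [Group K] {g : Lt → K}

theorem a_eq (hr : ∀ w ∈ rels, (w.map g).prod = 1) : gl g 12 = (ev (gl g) wA)⁻¹ := by
  rw [← invA hr, ev_gl]
  rfl

theorem adef_ok (hr : ∀ w ∈ rels, (w.map g).prod = 1) : ev (gl g) adef = 1 := by
  show ev (gl g) (12 :: wA) = 1
  rw [ev_cons, a_eq hr, inv_mul_cancel]

theorem a_sq (hr : ∀ w ∈ rels, (w.map g).prod = 1) : gl g 12 * gl g 12 = 1 := by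
  have h := aa hr
  rw [aW_eq hr] at h
  rw [a_eq hr, ← mul_inv_rev, h, inv_one]

theorem hinv1 (hr : ∀ w ∈ rels, (w.map g).prod = 1) : ∀ x, x < 13 → gl g x * gl g (inv x) = 1 := by
  intro x hx
  rcases Nat.lt_succ_iff_lt_or_eq.1 hx with h | rfl
  · exact hinv hr x h
  · exact a_sq hr

/-- relators that hold in `P1` -/
noncomputable def okR1 (r : List ℕ) : Bool := or (okR r) (or (r == adef) (r.flatMap sw == r1))

theorem ok_R1 (hr : ∀ w ∈ rels, (w.map g).prod = 1) (h1 : (r1.map g).prod = 1) {r : List ℕ} (h : okR1 r = true) :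
    ev (gl g) r = 1 := by
  rw [okR1, Bool.or_eq_true, Bool.or_eq_true] at h
  rcases h with h | h | h
  · exact ok_R hr h
  · rw [beq_iff_eq] at h
    rw [h]
    exact adef_ok hr
  · rw [beq_iff_eq] at h
    rw [ev_gl, h]
    exact h1

theorem hr1 : ∀ w ∈ rels, (w.map ge1).prod = 1 := modP1.rel

theorem h11 : (r1.map ge1).prod = 1 := wd1_rel (mem_rels1.2 (Or.inr rfl))

/-- use of a certificate for `P1` -/
theorem use {C : Cert} {R S T : List (List ℕ)}
    (mem : ∀ (H : Subgroup P1) (e : ℕ → P1), (∀ x, x < C.k → e x * e (C.inv x) = 1) → (∀ r ∈ R, ev e r = 1) →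
      (∀ s ∈ S, ev e s ∈ H) → ∀ w ∈ T, ev e w ∈ H) (hk : C.k = 13)
    (hi : (List.range 13).all (fun x => Nat.beq (C.inv x) (inv x)) = true) (hR : ∀ r ∈ R, ev (gl ge1) r = 1)
    (hS : S.all okS = true) (hT : T.all (fun w => fix (w.flatMap sw)) = true) : ∀ w ∈ T, ev (gl ge1) w = 1 := by
  refine one_of_mem modP1 (mem (Cg ge1) (gl ge1) ?_ hR ?_) hT
  · intro x hx
    rw [hk] at hx
    rw [Nat.eq_of_beq_eq_true (List.all_eq_true.1 hi x (List.mem_range.2 hx))]
    exact hinv1 hr1 x hx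
  · intro s h
    exact sub_ok (List.all_eq_true.1 hS s h)

theorem E1_T : ∀ w ∈ E1.T, ev (gl ge1) w = 1 :=
  use (C := E1.C) E1.mem rfl (by decide +kernel)
    (fun r h => ok_R1 hr1 h11 (List.all_eq_true.1 (by decide +kernel : E1.R.all okR1 = true) r h))
    (by decide +kernel) (by decide +kernel)

/-- relators that hold in `P1`, second list -/
noncomputable def okX (r : List ℕ) : Bool := or (okR1 r) (E1.T.contains r)

theorem ok_X {r : List ℕ} (h : okX r = true) : ev (gl ge1) r = 1 := by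
  rw [okX, Bool.or_eq_true] at h
  rcases h with h | h
  · exact ok_R1 hr1 h11 h
  · exact E1_T r (List.contains_iff_mem.1 h)

end Cfsg.Agent.CoThreeStd.SuzU.Ext
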