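import Cfsg.Agent.CoThreeStd.SuzU.HcAAll
import Cfsg.Agent.CoThreeStd.SuzU.HcJAll
import Cfsg.Agent.CoThreeStd.SuzU.HcHAll
import Cfsg.Agent.SporadicRecognition.CosetChain

/-!
# The chain `1 < A < J < H` (orders `1440`, `1440 * 840`, `1440 * 840 * 416`)

Letters `y0 c1 d2 D3 j4 k5 l6 m7 f8 F9 g10 G11` (`D`, `F`, `G` inverse to `d`, `f`, `g`, all others involutions).
-/

set_option autoImplicit false
set_option maxRecDepth 100000

namespace Cfsg.Agent.CoThreeStd.SuzU.HChain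

open Cfsg.Agent.SporadicRecognition.CosetCert Cfsg.Agent.SporadicRecognition.CosetChain
  Cfsg.Agent.SporadicRecognition.CosetCertHyp

/-- the formal inverse -/
def inv : Nat → Nat
  | 2 => 3
  | 3 => 2
  | 8 => 9
  | 9 => 8
  | 10 => 11
  | 11 => 10
  | x => x

/-- the relators -/
def RH : List (List Nat) := [
  [0,1,7,1,7], [0,2,5,3,5,2], [0,4,1,2,4,2], [0,7,1,2,7,2], [1,4,6,1,4,6], [1,4,7,1,4,7], [1,5,7,1,5,7],
  [2,5,6,3,6,5], [4,5,4,5,4,5], [5,6,5,6,5,6], [6,7,6,7,6,7], [0,6,0,6], [4,6,4,6], [4,7,4,7], [5,7,5,7],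
  [0,1,5,1,5], [0,1,6,1,6], [1,7,2,7,2], [0,5,9,2,5,1,8], [0,6,8,3,1,6,9], [1,2,6,3,9,4,8], [1,4,8,6,3,8,2],
  [2,4,9,2,6,8,8], [7,8,7,8,7,8,7,9,7,9,7,9], [1,3,11,11,9,11,8], [1,8,2,1,8,2], [1,6,9,4,10,8,11],
  [1,7,2,7,10,3,10], [2,4,7,3,4,7], [4,6,8,4,6,9], [4,6,10,4,11,6], [5,7,5,10,7,11], [0,1,2,4,2,4],
  [0,1,2,6,2,6], [0,2,1,10,0,10,3], [0,2,0,6,2,6], [0,8,4,6,1,8,8], [0,4,7,0,7,4], [0,5,9,1,5,3,8],
  [0,5,1,6,1,6,5], [0,7,10,1,7,1,10]]

variable {K : Type*} [Group K]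

theorem invA : ∀ x, x < HcAData.C.k → HcAData.C.inv x < HcAData.C.k ∧ x < 12 ∧ HcAData.C.inv x = inv x := by
  decide +kernel

theorem invJ : ∀ x, x < HcJData.C.k → HcJData.C.inv x < HcJData.C.k ∧ x < 12 ∧ HcJData.C.inv x = inv x := by
  decide +kernel

theorem invH : ∀ x, x < HcHData.C.k → HcHData.C.inv x < HcHData.C.k ∧ x < 12 ∧ HcHData.C.inv x = inv x := by
  decide +kernel

theorem chkA : checkHyp HcAData.C (restr HcAData.C.k RH) (restr HcAData.C.k HcAData.subw) = true := by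
  decide +kernel

theorem chkJ : checkHyp HcJData.C (restr HcJData.C.k RH) (restr HcJData.C.k HcJData.subw) = true := by
  decide +kernel

theorem chkH : checkHyp HcHData.C (restr HcHData.C.k RH) (restr HcHData.C.k HcHData.subw) = true := by
  decide +kernel

theorem subJ : ∀ s ∈ HcJData.subw, ∀ y ∈ s, y < 8 := by decide +kernel

theorem subH : ∀ s ∈ HcHData.subw, ∀ y ∈ s, y < 10 := by decide +kernel

theorem card_A (e : Nat → K) (hinv : ∀ x, x < 12 → e x * e (inv x) = 1) (hr : ∀ r ∈ RH, ev e r = 1) :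
    Finite (Subgroup.closure (e '' {x | x < 8})) ∧ Nat.card (Subgroup.closure (e '' {x | x < 8})) ≤ 1440 := by
  have h := card_step HcAData.C e RH HcAData.subw ⊥
    (fun x hx => by
      obtain ⟨h1, h2, h3⟩ := invA x hx
      exact ⟨h1, by rw [h3]; exact hinv x h2⟩)
    (fun r hr' _ => hr r hr') (fun s hs _ => absurd hs (by simp [HcAData.subw])) chkA HcAAll.part
    inferInstance
  rw [Subgroup.card_bot, Nat.mul_one] at h
  exact h

theorem card_J (e : Nat → K) (hinv : ∀ x, x < 12 → e x * e (inv x) = 1) (hr : ∀ r ∈ RH, ev e r = 1) :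
    Finite (Subgroup.closure (e '' {x | x < 10})) ∧
      Nat.card (Subgroup.closure (e '' {x | x < 10})) ≤ 1209600 := by
  obtain ⟨hf, hc⟩ := card_A e hinv hr
  have h := card_step HcJData.C e RH HcJData.subw (Subgroup.closure (e '' {x | x < 8}))
    (fun x hx => by
      obtain ⟨h1, h2, h3⟩ := invJ x hx
      exact ⟨h1, by rw [h3]; exact hinv x h2⟩)
    (fun r hr' _ => hr r hr') (fun s hs _ => sub_letters e 8 HcJData.subw subJ s hs) chkJ HcJAll.part hf
  refine ⟨h.1, h.2.trans ?_⟩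
  calc 840 * Nat.card (Subgroup.closure (e '' {x | x < 8})) ≤ 840 * 1440 := Nat.mul_le_mul_left _ hc
    _ = 1209600 := by norm_num

/-- **The order bound.** -/
theorem card_H (e : Nat → K) (hinv : ∀ x, x < 12 → e x * e (inv x) = 1) (hr : ∀ r ∈ RH, ev e r = 1) :
    Finite (Subgroup.closure (e '' {x | x < 12})) ∧
      Nat.card (Subgroup.closure (e '' {x | x < 12})) ≤ 503193600 := by
  obtain ⟨hf, hc⟩ := card_J e hinv hr
  have h := card_step HcHData.C e RH HcHData.subw (Subgroup.closure (e '' {x | x < 10}))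
    (fun x hx => by
      obtain ⟨h1, h2, h3⟩ := invH x hx
      exact ⟨h1, by rw [h3]; exact hinv x h2⟩)
    (fun r hr' _ => hr r hr') (fun s hs _ => sub_letters e 10 HcHData.subw subH s hs) chkH HcHAll.part hf
  refine ⟨h.1, h.2.trans ?_⟩
  calc 416 * Nat.card (Subgroup.closure (e '' {x | x < 10})) ≤ 416 * 1209600 := Nat.mul_le_mul_left _ hc
    _ = 503193600 := by norm_num

end Cfsg.Agent.CoThreeStd.SuzU.HChain
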