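import Cfsg.Agent.CoThreeStd.SuzU.HcPChk0
import Cfsg.Agent.CoThreeStd.SuzU.HcPChk1
import Cfsg.Agent.CoThreeStd.SuzU.HcPChk2
import Cfsg.Agent.CoThreeStd.SuzU.HcPChk3

set_option autoImplicit false
set_option maxRecDepth 100000

namespace Cfsg.Agent.CoThreeStd.SuzU.HcPAll

open Cfsg.Agent.SporadicRecognition.CosetCert Cfsg.Agent.CoThreeStd.SuzU.HcPData

theorem part : Part C 0 C.N 5346 := (((Cfsg.Agent.CoThreeStd.SuzU.HcPChk0.all).append C Cfsg.Agent.CoThreeStd.SuzU.HcPChk1.all).append C Cfsg.Agent.CoThreeStd.SuzU.HcPChk2.all).append C Cfsg.Agent.CoThreeStd.SuzU.HcPChk3.all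

end Cfsg.Agent.CoThreeStd.SuzU.HcPAll
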