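import Cfsg.Agent.CoThreeStd.SuzU.Base
import Cfsg.Agent.CoThreeStd.SuzU.HChain
import Cfsg.Agent.CoThreeStd.SuzU.HcPAll

/-!
# The top level of the chain: `|P1 : H| ≤ 5346`

`ub3 : (∀ r ∈ HChain.RH, ev eH r = 1) → UB3`, where the twelve letters `eH` of `H` are
`y c d D pt qt rt st ndn nDn g G`, `n = sbyprbs`, `g = bsqb ncdcn bqsb`.
-/

set_option autoImplicit false
set_option maxRecDepth 100000

namespace Cfsg.Agent.CoThreeStd.SuzU.PLevel

open Cfsg.Agent.CoThreeStd.SuzP.Data Cfsg.Agent.CoThreeStd.SuzP.Pres Cfsg.Agent.CoThreeStd.SuzU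
  Cfsg.Agent.SporadicRecognition.CosetCert Cfsg.Agent.SporadicRecognition.CosetChain
  Cfsg.Agent.SporadicRecognition.CosetCertHyp

/-- the letters -/
def ltr : ℕ → Lt
  | 0 => .y
  | 1 => .p
  | 2 => .q
  | 3 => .r
  | 4 => .s
  | 5 => .b
  | 6 => .c
  | 7 => .t
  | 8 => .d
  | _ => .D

/-- the number of a letter -/
def num : Lt → ℕ
  | .y => 0
  | .p => 1
  | .q => 2
  | .r => 3
  | .s => 4
  | .b => 5
  | .c => 6
  | .t => 7
  | .d => 8
  | .D => 9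

theorem ltr_num (x : Lt) : ltr (num x) = x := by cases x <;> rfl

/-- the letters of `P1` -/
def eP (x : ℕ) : P1 := ge1 (ltr x)

/-- the relators of `P1` in numbers -/
def RP : List (List ℕ) := rels1.map (·.map num)

theorem ev_num (w : List Lt) : ev eP (w.map num) = wd1 w := by
  induction w with
  | nil => rfl
  | cons x w ih =>
    rw [List.map_cons, ev_cons, ih]
    simp [wd1, eP, ltr_num]

theorem hRP : ∀ r ∈ RP, ev eP r = 1 := by
  intro r hr
  obtain ⟨w, hw, rfl⟩ := List.mem_map.1 hr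
  rw [ev_num]
  exact wd1_rel hw

/-- the words of the letters of `H` -/
def wH : ℕ → List ℕ
  | 0 => [0]
  | 1 => [6]
  | 2 => [8]
  | 3 => [9]
  | 4 => [1, 7]
  | 5 => [2, 7]
  | 6 => [3, 7]
  | 7 => [4, 7]
  | 8 => [4,5,0,1,3,5,4,8,4,5,0,1,3,5,4]
  | 9 => [4,5,0,1,3,5,4,9,4,5,0,1,3,5,4]
  | 10 => [5,4,2,5,4,5,0,1,3,5,4,6,8,6,4,5,0,1,3,5,4,5,2,4,5]
  | _ => [5,4,2,5,4,5,0,1,3,5,4,6,9,6,4,5,0,1,3,5,4,5,2,4,5]

/-- the letters of `H` -/
def eH (x : ℕ) : P1 := ev eP (wH x)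

theorem eP_inv (x : ℕ) (hx : x < 10) : eP x * eP (HcPData.C.inv x) = 1 := by
  have h : ∀ x, x < 10 → [x, HcPData.C.inv x] ∈ RP := by decide +kernel
  have h2 := hRP _ (h x hx)
  rwa [ev_cons, ev_cons, ev_nil, mul_one] at h2

theorem chkP : checkHyp HcPData.C (restr HcPData.C.k RP) (restr HcPData.C.k HcPData.subw) = true := by
  decide +kernel

theorem invP : ∀ x, x < HcPData.C.k → HcPData.C.inv x < HcPData.C.k ∧ x < 10 := by
  decide +kernel

theorem subP : ∀ s ∈ HcPData.subw, ∃ x, x < 12 ∧ wH x = s := by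
  decide +kernel

theorem top : Subgroup.closure (eP '' {x | x < 10}) = ⊤ := by
  rw [eq_top_iff, ← closure_ge1]
  apply Subgroup.closure_mono
  rintro _ ⟨x, rfl⟩
  refine ⟨num x, ?_, by rw [eP, ltr_num]⟩
  cases x <;> decide

/-- **The top level.** -/
theorem card_P (hf : Finite (Subgroup.closure (eH '' {x | x < 12})))
    {m : ℕ} (hc : Nat.card (Subgroup.closure (eH '' {x | x < 12})) ≤ m) :
    Finite P1 ∧ Nat.card P1 ≤ 5346 * m := by
  have h := card_step HcPData.C eP RP HcPData.subw (Subgroup.closure (eH '' {x | x < 12}))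
    (fun x hx => by
      obtain ⟨h1, h2⟩ := invP x hx
      exact ⟨h1, eP_inv x h2⟩)
    (fun r hr' _ => hRP r hr')
    (fun s hs _ => by
      obtain ⟨x, hx, rfl⟩ := subP s hs
      exact Subgroup.subset_closure ⟨x, hx, rfl⟩) chkP HcPAll.part hf
  have hk : HcPData.C.k = 10 := rfl
  rw [hk, top] at h
  rw [Subgroup.card_top] at h
  refine ⟨?_, h.2.trans (Nat.mul_le_mul_left _ hc)⟩
  have := h.1
  exact Finite.of_equiv _ (Subgroup.topEquiv (G := P1)).toEquiv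

/-- an involution conjugation -/
private theorem invol {K : Type*} [Group K] {a b : K} (ha : a * a = 1) (hb : b * b = 1) (hab : b * a * b * a = 1) :
    (a * b) * (a * b) = 1 := by
  have ha' : a⁻¹ = a := inv_eq_of_mul_eq_one_left ha
  have hb' : b⁻¹ = b := inv_eq_of_mul_eq_one_left hb
  have h : (a * b) * (a * b) = a * (b * a * b * a) * a⁻¹ := by group
  rw [h, hab]; simp

theorem eH_inv (x : ℕ) (hx : x < 12) : eH x * eH (HChain.inv x) = 1 := by
  have q : ∀ w ∈ RP, ev eP w = 1 := hRP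
  have s0 : eP 0 * eP 0 = 1 := eP_inv 0 (by decide)
  have s1 : eP 1 * eP 1 = 1 := eP_inv 1 (by decide)
  have s2 : eP 2 * eP 2 = 1 := eP_inv 2 (by decide)
  have s3 : eP 3 * eP 3 = 1 := eP_inv 3 (by decide)
  have s4 : eP 4 * eP 4 = 1 := eP_inv 4 (by decide)
  have s5 : eP 5 * eP 5 = 1 := eP_inv 5 (by decide)
  have s6 : eP 6 * eP 6 = 1 := eP_inv 6 (by decide)
  have s7 : eP 7 * eP 7 = 1 := eP_inv 7 (by decide)
  have s8 : eP 8 * eP 9 = 1 := eP_inv 8 (by decide)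
  have s9 : eP 9 * eP 8 = 1 := eP_inv 9 (by decide)
  have c1 : eP 7 * eP 1 * eP 7 * eP 1 = 1 := by
    have := q [7,1,7,1] (by decide)
    simpa only [ev_cons, ev_nil, mul_one, mul_assoc] using this
  have c2 : eP 7 * eP 2 * eP 7 * eP 2 = 1 := by
    have := q [7,2,7,2] (by decide)
    simpa only [ev_cons, ev_nil, mul_one, mul_assoc] using this
  have c3 : eP 7 * eP 3 * eP 7 * eP 3 = 1 := by
    have := q [7,3,7,3] (by decide)
    simpa only [ev_cons, ev_nil, mul_one, mul_assoc] using this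
  have c4 : eP 7 * eP 4 * eP 7 * eP 4 = 1 := by
    have := q [7,4,7,4] (by decide)
    simpa only [ev_cons, ev_nil, mul_one, mul_assoc] using this
  have c01 : eP 0 * eP 1 * eP 0 * eP 1 = 1 := by
    have := q [0,1,0,1] (by decide)
    simpa only [ev_cons, ev_nil, mul_one, mul_assoc] using this
  have c03 : eP 0 * eP 3 * eP 0 * eP 3 = 1 := by
    have := q [0,3,0,3] (by decide)
    simpa only [ev_cons, ev_nil, mul_one, mul_assoc] using this
  have c13 : eP 1 * eP 3 * eP 1 * eP 3 = 1 := by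
    have := q [1,3,1,3] (by decide)
    simpa only [ev_cons, ev_nil, mul_one, mul_assoc] using this
  -- `v = y p r` is an involution
  have hcomm : ∀ {a b : P1}, a * a = 1 → b * b = 1 → a * b * a * b = 1 → a * b = b * a := by
    intro a b ha hb hab
    have ha' : a⁻¹ = a := inv_eq_of_mul_eq_one_left ha
    have hb' : b⁻¹ = b := inv_eq_of_mul_eq_one_left hb
    have h1 : a * b = (a * b * a * b) * (b⁻¹ * a⁻¹) := by group
    rw [h1, hab, one_mul, ha', hb']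
  have e01 := hcomm s0 s1 c01
  have e03 := hcomm s0 s3 c03
  have e13 := hcomm s1 s3 c13
  have hv : (eP 0 * eP 1 * eP 3) * (eP 0 * eP 1 * eP 3) = 1 := by
    calc (eP 0 * eP 1 * eP 3) * (eP 0 * eP 1 * eP 3) = eP 0 * eP 1 * (eP 3 * eP 0) * eP 1 * eP 3 := by group
      _ = eP 0 * eP 1 * (eP 0 * eP 3) * eP 1 * eP 3 := by rw [e03]
      _ = (eP 0 * eP 1) * eP 0 * (eP 3 * eP 1) * eP 3 := by group
      _ = (eP 1 * eP 0) * eP 0 * (eP 1 * eP 3) * eP 3 := by rw [e01, e13]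
      _ = eP 1 * (eP 0 * eP 0) * eP 1 * (eP 3 * eP 3) := by group
      _ = 1 := by rw [s0, s3, mul_one, mul_one, s1]
  have conj : ∀ {u w x : P1}, u * w = 1 → w * u = 1 → x * x = 1 → (u * x * w) * (u * x * w) = 1 := by
    intro u w x _ h2 hx
    calc (u * x * w) * (u * x * w) = u * x * (w * u) * x * w := by group
      _ = u * (x * x) * w := by rw [h2]; group
      _ = 1 := by rw [hx, mul_one]; assumption
  -- the word `n`
  have hn : ∃ n : P1, n * n = 1 ∧ ev eP [4,5,0,1,3,5,4] = n := by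
    refine ⟨ev eP [4,5,0,1,3,5,4], ?_, rfl⟩
    have h1 : ev eP [4,5,0,1,3,5,4] = (eP 4 * eP 5) * (eP 0 * eP 1 * eP 3) * (eP 5 * eP 4) := by
      simp only [ev_cons, ev_nil, mul_one, mul_assoc]
    rw [h1]
    refine conj ?_ ?_ hv
    · calc eP 4 * eP 5 * (eP 5 * eP 4) = eP 4 * (eP 5 * eP 5) * eP 4 := by group
        _ = 1 := by rw [s5, mul_one, s4]
    · calc eP 5 * eP 4 * (eP 4 * eP 5) = eP 5 * (eP 4 * eP 4) * eP 5 := by group
        _ = 1 := by rw [s4, mul_one, s5]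
  obtain ⟨n, hnn, hne⟩ := hn
  have conj2 : ∀ {u w x z : P1}, u * w = 1 → w * u = 1 → x * z = 1 → (u * x * w) * (u * z * w) = 1 := by
    intro u w x z h1 h2 hx
    calc (u * x * w) * (u * z * w) = u * x * (w * u) * z * w := by group
      _ = u * (x * z) * w := by rw [h2]; group
      _ = 1 := by rw [hx, mul_one]; exact h1
  have h8 : ∀ z, ev eP [4,5,0,1,3,5,4,z,4,5,0,1,3,5,4] = n * eP z * n := by
    intro z
    have : ([4,5,0,1,3,5,4,z,4,5,0,1,3,5,4] : List ℕ) = [4,5,0,1,3,5,4] ++ ([z] ++ [4,5,0,1,3,5,4]) := rfl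
    rw [this, ev_append, ev_append, hne, ev_cons, ev_nil, mul_one, mul_assoc]
  have h10 : ∀ z, ev eP [5,4,2,5,4,5,0,1,3,5,4,6,z,6,4,5,0,1,3,5,4,5,2,4,5] =
      (eP 5 * eP 4 * eP 2 * eP 5 * n * eP 6) * eP z * (eP 6 * n * eP 5 * eP 2 * eP 4 * eP 5) := by
    intro z
    have : ([5,4,2,5,4,5,0,1,3,5,4,6,z,6,4,5,0,1,3,5,4,5,2,4,5] : List ℕ) =
      [5,4,2,5] ++ ([4,5,0,1,3,5,4] ++ ([6,z,6] ++ ([4,5,0,1,3,5,4] ++ [5,2,4,5]))) := rfl
    rw [this, ev_append, ev_append, ev_append, ev_append, hne]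
    simp only [ev_cons, ev_nil, mul_one, mul_assoc]
  have hu1 : (eP 5 * eP 4 * eP 2 * eP 5 * n * eP 6) * (eP 6 * n * eP 5 * eP 2 * eP 4 * eP 5) = 1 := by
    calc (eP 5 * eP 4 * eP 2 * eP 5 * n * eP 6) * (eP 6 * n * eP 5 * eP 2 * eP 4 * eP 5)
        = eP 5 * eP 4 * eP 2 * eP 5 * n * (eP 6 * eP 6) * n * eP 5 * eP 2 * eP 4 * eP 5 := by group
      _ = eP 5 * eP 4 * eP 2 * eP 5 * (n * n) * eP 5 * eP 2 * eP 4 * eP 5 := by rw [s6]; group
      _ = eP 5 * eP 4 * eP 2 * (eP 5 * eP 5) * eP 2 * eP 4 * eP 5 := by rw [hnn]; group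
      _ = eP 5 * eP 4 * (eP 2 * eP 2) * eP 4 * eP 5 := by rw [s5]; group
      _ = eP 5 * (eP 4 * eP 4) * eP 5 := by rw [s2]; group
      _ = 1 := by rw [s4, mul_one, s5]
  have hu2 : (eP 6 * n * eP 5 * eP 2 * eP 4 * eP 5) * (eP 5 * eP 4 * eP 2 * eP 5 * n * eP 6) = 1 :=
    mul_eq_one_comm.1 hu1
  have g1 : ∀ z, ev eP [z] = eP z := fun z => by rw [ev_cons, ev_nil, mul_one]
  have g2 : ∀ a z, ev eP [a, z] = eP a * eP z := fun a z => by rw [ev_cons, ev_cons, ev_nil, mul_one]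
  have key : ∀ x, x < 12 → ev eP (wH x) * ev eP (wH (HChain.inv x)) = 1 := by
    intro x hx
    interval_cases x
    · show ev eP [0] * ev eP [0] = 1
      rw [g1, s0]
    · show ev eP [6] * ev eP [6] = 1
      rw [g1, s6]
    · show ev eP [8] * ev eP [9] = 1
      rw [g1, g1, s8]
    · show ev eP [9] * ev eP [8] = 1
      rw [g1, g1, s9]
    · show ev eP [1, 7] * ev eP [1, 7] = 1
      rw [g2]; exact invol s1 s7 c1
    · show ev eP [2, 7] * ev eP [2, 7] = 1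
      rw [g2]; exact invol s2 s7 c2
    · show ev eP [3, 7] * ev eP [3, 7] = 1
      rw [g2]; exact invol s3 s7 c3
    · show ev eP [4, 7] * ev eP [4, 7] = 1
      rw [g2]; exact invol s4 s7 c4
    · show ev eP [4,5,0,1,3,5,4,8,4,5,0,1,3,5,4] * ev eP [4,5,0,1,3,5,4,9,4,5,0,1,3,5,4] = 1
      rw [h8, h8]; exact conj2 hnn hnn s8
    · show ev eP [4,5,0,1,3,5,4,9,4,5,0,1,3,5,4] * ev eP [4,5,0,1,3,5,4,8,4,5,0,1,3,5,4] = 1
      rw [h8, h8]; exact conj2 hnn hnn s9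
    · show ev eP [5,4,2,5,4,5,0,1,3,5,4,6,8,6,4,5,0,1,3,5,4,5,2,4,5] *
        ev eP [5,4,2,5,4,5,0,1,3,5,4,6,9,6,4,5,0,1,3,5,4,5,2,4,5] = 1
      rw [h10, h10]; exact conj2 hu1 hu2 s8
    · show ev eP [5,4,2,5,4,5,0,1,3,5,4,6,9,6,4,5,0,1,3,5,4,5,2,4,5] *
        ev eP [5,4,2,5,4,5,0,1,3,5,4,6,8,6,4,5,0,1,3,5,4,5,2,4,5] = 1
      rw [h10, h10]; exact conj2 hu1 hu2 s9
  exact key x hx

/-- **The order bound from the relators of `H`.** -/
theorem ub3 (hr : ∀ r ∈ HChain.RH, ev eH r = 1) : UB3 := by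
  obtain ⟨hf, hc⟩ := HChain.card_H eH eH_inv hr
  obtain ⟨h1, h2⟩ := card_P hf hc
  exact ⟨h1, h2.trans (le_of_eq (by norm_num))⟩

end Cfsg.Agent.CoThreeStd.SuzU.PLevel
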