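import Cfsg.Agent.CoThreeStd.SuzP.ROne
import Cfsg.Agent.CoThreeStd.SuzU.AFacts

/-!
# S1750, pattern P3 (`Suz:2`): the relator `r1` holds in `G`
-/

set_option autoImplicit false

namespace Cfsg.Agent.CoThreeStd.SuzU.ROneG

open Cfsg.Agent.CoThreeStd.MTwelve hiding cj
open Cfsg.Agent.CoThreeStd.OutAut Cfsg.Agent.CoThreeStd.OutCtx Cfsg.Agent.CoThreeStd.OutT
open Cfsg.Agent.CoThreeStd.SuzP.Data (Lt)
open Cfsg.Agent.CoThreeStd.SuzP

variable {G : Type*} [Group G] {t c d : G} {f : H →* G}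

theorem kW_prod : (AFacts.kW.map (gg t c d f)).prod = f ROne.kk := by
  simp only [AFacts.kW, ROne.kk, wd, gen, gg, List.map_cons, List.map_nil, List.prod_cons, List.prod_nil, mul_one,
    map_mul]

theorem aW_eq : AFacts.aW = ROne.aW := rfl

/-- **The relator `r1`.** -/
theorem r1_ok (T : TrD t c d f) (hr : ∀ w ∈ Pres.rels, (w.map (gg t c d f)).prod = 1) :
    (SuzU.r1.map (gg t c d f)).prod = 1 := by
  refine ROne.r1_ok T.C (a := (ROne.aW.map (gg t c d f)).prod) rfl ?_ ?_ ?_ ?_ ?_ ?_ ?_ <;> rw [← aW_eq]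
  · exact AFacts.aa hr
  · rw [map_mul]
    exact AFacts.at_ hr
  · exact AFacts.ay hr
  · exact AFacts.ap hr
  · exact AFacts.ar hr
  · exact AFacts.ac hr
  · rw [← kW_prod]
    exact AFacts.ak hr

end Cfsg.Agent.CoThreeStd.SuzU.ROneG
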