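import Cfsg.Agent.CoThreeStd.SuzU.RhoD
import Cfsg.Agent.CoThreeStd.SuzU.RHO
import Cfsg.Agent.CoThreeStd.SuzU.E3
import Cfsg.Agent.CoThreeStd.SuzU.HChain

/-!
# The relators of `HChain.RH` hold in `P1`

`j = p t`, `k = q t`, `l = r t`, `m = s t`, `f = n d n`, `g = b s q b n c d c n b q s b`.
-/

set_option autoImplicit false
set_option maxRecDepth 100000
set_option Elab.async false

namespace Cfsg.Agent.CoThreeStd.SuzU.RelH

open Cfsg.Agent.CoThreeStd.SuzP.Data Cfsg.Agent.CoThreeStd.SuzP.Pres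
  Cfsg.Agent.CoThreeStd.SuzU.Cent Cfsg.Agent.CoThreeStd.SuzU.Sw Cfsg.Agent.CoThreeStd.SuzU.AFacts
  Cfsg.Agent.CoThreeStd.SuzU.Ext
open Cfsg.Agent.SporadicRecognition.CosetCert (ev ev_nil ev_cons ev_append Cert)
open Cfsg.Agent.SporadicRecognition.CosetCertHyp (ev_invw invw)

theorem RHO_T : ∀ w ∈ RHO.T, ev (gl ge1) w = 1 :=
  use (C := RHO.C) RHO.mem rfl (by decide +kernel)
    (fun r h => ok_X (List.all_eq_true.1 (by decide +kernel : RHO.R.all okX = true) r h))
    (by decide +kernel) (by decide +kernel)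

theorem E3_T : ∀ w ∈ E3.T, ev (gl ge1) w = 1 :=
  use (C := E3.C) E3.mem rfl (by decide +kernel)
    (fun r h => ok_X (List.all_eq_true.1 (by decide +kernel : E3.R.all okX = true) r h))
    (by decide +kernel) (by decide +kernel)

/-- the letters of `HChain` as words in the letters of `Sw` -/
def sh : ℕ → List ℕ
  | 0 => [0]
  | 1 => [6]
  | 2 => [9]
  | 3 => [10]
  | 4 => [1, 7]
  | 5 => [2, 7]
  | 6 => [3, 7]
  | 7 => [4, 7]
  | 8 => [8, 9, 8]
  | 9 => [8, 10, 8]
  | 10 => [5, 4, 2, 5, 8, 6, 9, 6, 8, 5, 2, 4, 5]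
  | 11 => [5, 4, 2, 5, 8, 6, 10, 6, 8, 5, 2, 4, 5]
  | _ => []

/-- the values of the letters of `HChain` -/
noncomputable def eH (k : ℕ) : P1 := ev (gl ge1) (sh k)

theorem ev_eH (r : List ℕ) : ev eH r = ev (gl ge1) (r.flatMap sh) := by
  induction r with
  | nil => rfl
  | cons k r ih => rw [ev_cons, ih, List.flatMap_cons, ev_append]; rfl

theorem rho_ok : ev (gl ge1) [4,7,8,9,8,4,7,8,9,8,4,7,8,9,8,4,7,8,10,8,4,7,8,10,8,4,7,8,10,8] = 1 := by
  have h : ev (gl ge1) ([10, 8, 11] ++ ([4,7,8,9,8,4,7,8,9,8,4,7,8,9,8,4,7,8,10,8,4,7,8,10,8,4,7,8,10,8] ++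
    [11, 8, 9])) = 1 := RHO_T _ (by decide +kernel)
  have h2 : ev (gl ge1) [11, 8, 9] = (ev (gl ge1) [10, 8, 11])⁻¹ := by
    have h3 := hinv1 hr1 11 (by norm_num)
    have h4 := hinv1 hr1 8 (by norm_num)
    have h5 := hinv1 hr1 10 (by norm_num)
    have e1 : inv 11 = 11 := rfl
    have e2 : inv 8 = 8 := rfl
    have e3 : inv 10 = 9 := rfl
    rw [e1] at h3
    rw [e2] at h4
    rw [e3] at h5
    rw [ev_cons, ev_cons, ev_cons, ev_nil, mul_one, ev_cons, ev_cons, ev_cons, ev_nil, mul_one, mul_inv_rev,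
      mul_inv_rev, ← inv_eq_of_mul_eq_one_right h3, ← inv_eq_of_mul_eq_one_right h4,
      ← inv_eq_of_mul_eq_one_right h5]
    simp only [inv_inv, mul_assoc]
    rw [inv_eq_of_mul_eq_one_right h3, inv_eq_of_mul_eq_one_right h4]
  rw [ev_append, ev_append, h2] at h
  have h6 := mul_inv_eq_one.1 ((mul_assoc _ _ _).trans h)
  exact (mul_eq_left.1 h6)

/-- check of a relator of `HChain` -/
noncomputable def okH (r : List ℕ) : Bool :=
  or (E3.T.contains (r.flatMap sh)) (r == [7, 8, 7, 8, 7, 8, 7, 9, 7, 9, 7, 9])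

theorem RH_chk : HChain.RH.all okH = true := by decide +kernel

/-- **the relators of `HChain` hold** -/
theorem RH_ok : ∀ r ∈ HChain.RH, ev eH r = 1 := by
  intro r hr
  have h := List.all_eq_true.1 RH_chk r hr
  rw [okH, Bool.or_eq_true] at h
  rcases h with h | h
  · rw [ev_eH]
    exact E3_T _ (List.contains_iff_mem.1 h)
  · rw [beq_iff_eq] at h
    rw [h, ev_eH]
    exact rho_ok

theorem inv_aux (w w' : List ℕ) (hw : ∀ y ∈ w, y < 13) (h : invw inv w = w') :
    ev (gl ge1) w * ev (gl ge1) w' = 1 := by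
  have h13 : (List.range 13).all (fun x => Nat.blt (inv x) 13) = true := by decide +kernel
  rw [← h, ev_invw (gl ge1) inv 13 (fun x hx =>
    ⟨Nat.le_of_ble_eq_true (List.all_eq_true.1 h13 x (List.mem_range.2 hx)), hinv1 hr1 x hx⟩) w hw,
    mul_inv_cancel]

theorem inv_H : ∀ x, x < 12 → eH x * eH (HChain.inv x) = 1 := by
  intro x hx
  rcases Nat.lt_or_ge x 8 with h8 | h8
  · have h : (List.range 8).all (fun x => okR (sh x ++ sh (HChain.inv x))) = true := by decide +kernel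
    have h1 := List.all_eq_true.1 h x (List.mem_range.2 h8)
    have h2 := ok_R hr1 h1
    rwa [ev_append] at h2
  · interval_cases x
    · exact inv_aux (sh 8) (sh 9) (by decide) rfl
    · exact inv_aux (sh 9) (sh 8) (by decide) rfl
    · exact inv_aux (sh 10) (sh 11) (by decide) rfl
    · exact inv_aux (sh 11) (sh 10) (by decide) rfl

end Cfsg.Agent.CoThreeStd.SuzU.RelH
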