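import Cfsg.Agent.CoThreeStd.SuzU.Cent

/-!
# The letters of the coset certificates

`0 = y, 1 = p, 2 = q, 3 = r, 4 = s, 5 = b, 6 = c, 7 = t, 8 = n, 9 = d, 10 = D, 11 = x, 12 = a`, `n = s b y p r b s`,
`x = b q s b`, `a = (q p n t q p n c n d n d)⁻¹`.
-/

set_option autoImplicit false
set_option maxRecDepth 100000
set_option Elab.async false

namespace Cfsg.Agent.CoThreeStd.SuzU.Sw

open Cfsg.Agent.CoThreeStd.SuzP.Data Cfsg.Agent.CoThreeStd.SuzP.Tab Cfsg.Agent.CoThreeStd.SuzP.Pres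
  Cfsg.Agent.CoThreeStd.SuzU.Cent
open Cfsg.Agent.SporadicRecognition.CosetCert (ev ev_nil ev_cons)

/-- the letters of the certificates -/
def sw : ℕ → List Lt
  | 0 => [.y]
  | 1 => [.p]
  | 2 => [.q]
  | 3 => [.r]
  | 4 => [.s]
  | 5 => [.b]
  | 6 => [.c]
  | 7 => [.t]
  | 8 => [.s, .b, .y, .p, .r, .b, .s]
  | 9 => [.d]
  | 10 => [.D]
  | 11 => [.b, .q, .s, .b]
  | 12 => [.D, .s, .b, .y, .p, .r, .b, .s, .D, .s, .b, .y, .p, .r, .b, .s, .c, .s, .b, .y, .p, .r, .b, .s, .p, .q,
      .t, .s, .b, .y, .p, .r, .b, .s, .p, .q]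
  | _ => []

/-- the formal inverse -/
def inv (x : ℕ) : ℕ := bif Nat.beq x 9 then 10 else bif Nat.beq x 10 then 9 else x

variable {K : Type*} [Group K]

/-- the values of the letters -/
def gl (g : Lt → K) (k : ℕ) : K := ((sw k).map g).prod

theorem ev_gl (g : Lt → K) (r : List ℕ) : ev (gl g) r = ((r.flatMap sw).map g).prod := by
  induction r with
  | nil => rfl
  | cons k r ih => rw [ev_cons, ih, List.flatMap_cons, List.map_append, List.prod_append]; rfl

variable {g : Lt → K}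

/-- relators that hold in all groups satisfying the relators of `P` -/
noncomputable def okR (r : List ℕ) : Bool := or (rels.contains (r.flatMap sw)) (okC (r.flatMap sw))

theorem ok_R (hr : ∀ w ∈ rels, (w.map g).prod = 1) {r : List ℕ} (h : okR r = true) : ev (gl g) r = 1 := by
  rw [ev_gl]
  rw [okR, Bool.or_eq_true] at h
  rcases h with h | h
  · exact hr _ (List.contains_iff_mem.1 h)
  · exact rel_C hr h

theorem inv_chk : (List.range 12).all (fun x => okR [x, inv x]) = true := by decide +kernel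

theorem hinv (hr : ∀ w ∈ rels, (w.map g).prod = 1) : ∀ x, x < 12 → gl g x * gl g (inv x) = 1 := by
  intro x hx
  have h := ok_R hr (List.all_eq_true.1 inv_chk x (List.mem_range.2 hx))
  rwa [ev_cons, ev_cons, ev_nil, mul_one] at h

/-- words of the subgroup -/
def okS (r : List ℕ) : Bool := (r.flatMap sw).all fun x => cl.contains x

theorem sub_ok {r : List ℕ} (h : okS r = true) : ev (gl g) r ∈ Cg g := by
  rw [ev_gl]
  exact word_mem h

theorem one_of_mem {ψ' : K →* Equiv.Perm ℕ} (M : Mod g ψ') {T : List (List ℕ)} (hT : ∀ w ∈ T, ev (gl g) w ∈ Cg g)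
    (hf : T.all (fun w => fix (w.flatMap sw)) = true) : ∀ w ∈ T, ev (gl g) w = 1 := by
  intro w hw
  have h1 := hT w hw
  rw [ev_gl] at h1 ⊢
  exact one_of_fix M h1 (List.all_eq_true.1 hf w hw)

end Cfsg.Agent.CoThreeStd.SuzU.Sw
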