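import Cfsg.Agent.CoThreeStd.SuzU.PLevel
import Cfsg.Agent.CoThreeStd.SuzU.RelH

/-!
# The upper bound `UB3` for the order of `P1`
-/

set_option autoImplicit false
set_option maxRecDepth 100000

namespace Cfsg.Agent.CoThreeStd.SuzU.UBThree

open Cfsg.Agent.CoThreeStd.SuzP.Data Cfsg.Agent.CoThreeStd.SuzP.Pres Cfsg.Agent.CoThreeStd.SuzU
  Cfsg.Agent.CoThreeStd.SuzU.Cent Cfsg.Agent.CoThreeStd.SuzU.Sw
open Cfsg.Agent.SporadicRecognition.CosetCert (ev ev_nil ev_cons ev_append)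

theorem ev_congr {K : Type*} [Group K] {f h : ℕ → K} {r : List ℕ} (e : ∀ x ∈ r, f x = h x) : ev f r = ev h r := by
  induction r with
  | nil => rfl
  | cons x r ih =>
    rw [ev_cons, ev_cons, e x List.mem_cons_self, ih fun y hy => e y (List.mem_cons_of_mem _ hy)]

theorem eH_eq {x : ℕ} (hx : x < 12) : PLevel.eH x = RelH.eH x := by
  have h : ∀ x, x < 12 → (PLevel.wH x).map PLevel.ltr = (RelH.sh x).flatMap sw := by decide +kernel
  have h1 : PLevel.eH x = (((PLevel.wH x).map PLevel.ltr).map ge1).prod := ev_map PLevel.ltr _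
  rw [h1, RelH.eH, ev_gl, h x hx]

theorem lt12 : ∀ r ∈ HChain.RH, ∀ x ∈ r, x < 12 := by decide +kernel

/-- **`P1` is finite of order at most `3 |Suz:2|`** -/
theorem ub3 : UB3 := by
  apply PLevel.ub3
  intro r hr
  rw [ev_congr fun x hx => eH_eq (lt12 r hr x hx)]
  exact RelH.RH_ok r hr

end Cfsg.Agent.CoThreeStd.SuzU.UBThree
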